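import Cfsg.Agent.Lib.SUClassNumber.Classes

/-!
Numerical bounds for the number of classes of the special unitary group.
-/

set_option autoImplicit false

namespace CfsgLib.SUClassNumber

open Finset CfsgLib.SLClassNumber

/-- An upper bound for the leading coefficient. -/
def lead (x : ℚ) : ℕ → ℚ
  | 0 => 1 + x
  | L + 1 => lead x L * ((1 + x ^ (L + 2)) / (1 - x ^ (L + 1)))

theorem uCount_one (q n : ℕ) : uCount q 1 n = hB q n := by
  rw [uCount, Finset.sum_eq_single n]
  · simp [uCount]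
  · intro d hd hne
    simp only [mem_range, zero_add, Nat.div_one] at hd
    simp only [uCount, if_neg (show ¬ (n - (0 + 1) * d = 0) by omega), mul_zero]
  · intro h
    simp at h

theorem lead_pos (x : ℚ) (hx0 : 0 ≤ x) (hx1 : x < 1) : ∀ L, 1 ≤ lead x L := by
  intro L
  induction L with
  | zero => rw [lead]; linarith
  | succ L ih =>
    rw [lead]
    have h1 : x ^ (L + 1) < 1 := pow_lt_one₀ hx0 hx1 (by omega)
    have h2 : (1 : ℚ) ≤ (1 + x ^ (L + 2)) / (1 - x ^ (L + 1)) := by
      rw [le_div_iff₀ (by linarith)]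
      have h3 : (0 : ℚ) ≤ x ^ (L + 2) := by positivity
      have h4 : (0 : ℚ) ≤ x ^ (L + 1) := by positivity
      linarith
    nlinarith

theorem uCount_le_lead (q : ℕ) (hq : 2 ≤ q) (L : ℕ) :
    ∀ n : ℕ, (uCount q (L + 1) n : ℚ) ≤ lead ((q : ℚ)⁻¹) L * (q : ℚ) ^ n := by
  have hqQ : (q : ℚ) ≠ 0 := Nat.cast_ne_zero.mpr (by omega)
  have hx0 : (0 : ℚ) ≤ (q : ℚ)⁻¹ := by positivity
  have hx1 : (q : ℚ)⁻¹ < 1 := inv_lt_one_of_one_lt₀ (by exact_mod_cast hq)
  set x : ℚ := (q : ℚ)⁻¹ with hx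
  have hh : ∀ d, (hB q (d + 1) : ℚ) = (1 + x) * (q : ℚ) ^ (d + 1) := fun d => by
    rw [hB, pow_succ, hx]
    push_cast
    field_simp
  induction L with
  | zero =>
    intro n
    rw [uCount_one, lead]
    rcases n with _ | n
    · simp [hB, hx0]
    · rw [hh]
  | succ L ih =>
    intro n
    rw [uCount, lead]
    set m := L + 1 + 1 with hm
    set N := n / m with hN
    set ρ : ℚ := x ^ (L + 1) with hρ
    have hρ0 : 0 ≤ ρ := by positivity
    have hρ1 : ρ < 1 := pow_lt_one₀ hx0 hx1 (by omega)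
    have hU := lead_pos x hx0 hx1 L
    have hne1 : 1 - x ^ (L + 1) ≠ 0 := by linarith
    push_cast
    rw [Finset.sum_range_succ']
    have h0 : (hB q 0 : ℚ) * (uCount q (L + 1) (n - m * 0) : ℚ) ≤ lead x L * (q : ℚ) ^ n := by
      rw [mul_zero, Nat.sub_zero, hB, Nat.cast_one, one_mul]; exact ih n
    have h1 : ∀ d ∈ range N, (hB q (d + 1) : ℚ) * (uCount q (L + 1) (n - m * (d + 1)) : ℚ) ≤
        lead x L * (q : ℚ) ^ n * ((1 + x) * ρ) * ρ ^ d := by
      intro d hd
      rw [mem_range] at hd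
      have hmd : m * (d + 1) ≤ n := le_trans (Nat.mul_le_mul_left _ hd) (hN ▸ Nat.mul_div_le n m)
      refine (mul_le_mul_of_nonneg_left (ih _) (Nat.cast_nonneg _)).trans (le_of_eq ?_)
      have e1 : (q : ℚ) ^ (n - m * (d + 1)) = (q : ℚ) ^ n * x ^ (m * (d + 1)) := by
        rw [hx, pow_sub₀ _ hqQ hmd, inv_pow]
      have e2 : x ^ (m * (d + 1)) = x ^ (d + 1) * ρ ^ (d + 1) := by
        rw [hρ, ← pow_mul, ← pow_add]; congr 1; rw [hm]; ring
      have e3 : (q : ℚ) ^ (d + 1) * x ^ (d + 1) = 1 := by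
        rw [← mul_pow, hx, mul_inv_cancel₀ hqQ, one_pow]
      rw [hh, e1, e2, pow_succ ρ d]
      calc (1 + x) * (q : ℚ) ^ (d + 1) * (lead x L * ((q : ℚ) ^ n * (x ^ (d + 1) * (ρ ^ d * ρ))))
          = lead x L * (q : ℚ) ^ n * ((1 + x) * ρ) * ρ ^ d * ((q : ℚ) ^ (d + 1) * x ^ (d + 1)) := by ring
        _ = _ := by rw [e3, mul_one]
    refine (add_le_add (Finset.sum_le_sum h1) h0).trans ?_
    rw [← Finset.mul_sum]
    have hg : ∑ d ∈ range N, ρ ^ d ≤ 1 / (1 - ρ) := by
      rw [le_div_iff₀ (by linarith), geom_sum_mul_neg]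
      have : 0 ≤ ρ ^ N := by positivity
      linarith
    refine (add_le_add_left (mul_le_mul_of_nonneg_left hg (by positivity)) _).trans (le_of_eq ?_)
    rw [show x ^ (L + 2) = x * ρ by rw [hρ, ← pow_succ'], hρ]
    field_simp
    ring

theorem lead_le (x a B : ℚ) (hx0 : 0 < x) (hx1 : x < 1) (ha : 0 ≤ a) (hB : 0 ≤ B)
    (hab : 1 + x ≤ a * (1 - x)) (L₀ : ℕ) (h0 : lead x L₀ ≤ B * (1 - a * x ^ (L₀ + 1))) :
    ∀ L, lead x L ≤ B := by
  have hinv : ∀ j, lead x (L₀ + j) ≤ B * (1 - a * x ^ (L₀ + j + 1)) := by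
    intro j
    induction j with
    | zero => exact h0
    | succ j ih =>
      rw [← add_assoc, lead]
      set k := L₀ + j
      have hv : x ^ (k + 1) < 1 := pow_lt_one₀ hx0.le hx1 (by omega)
      have hv0 : (0 : ℚ) < x ^ (k + 1) := by positivity
      refine (mul_le_mul_of_nonneg_right ih (div_nonneg (by positivity) (by linarith))).trans ?_
      rw [mul_div_assoc', div_le_iff₀ (by linarith), mul_assoc, mul_assoc]
      refine mul_le_mul_of_nonneg_left ?_ hB
      rw [pow_succ' x (k + 1)]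
      have h2 : 0 ≤ a * (x ^ (k + 1) * x ^ (k + 1)) * x := by positivity
      nlinarith [mul_le_mul_of_nonneg_right hab hv0.le]
  intro L
  rcases le_or_gt L₀ L with h | h
  · obtain ⟨j, rfl⟩ := Nat.exists_eq_add_of_le h
    refine (hinv j).trans ?_
    have : 0 ≤ B * (a * x ^ (L₀ + j + 1)) := by positivity
    linarith
  · have hmono : Monotone (lead x) := monotone_nat_of_le_succ fun k => by
      rw [lead]
      have hk := lead_pos x hx0.le hx1 k
      have h1 : x ^ (k + 1) < 1 := pow_lt_one₀ hx0.le hx1 (by omega)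
      have h2 : (1 : ℚ) ≤ (1 + x ^ (k + 2)) / (1 - x ^ (k + 1)) := by
        rw [le_div_iff₀ (by linarith)]
        have h3 : (0 : ℚ) ≤ x ^ (k + 2) := by positivity
        have h4 : (0 : ℚ) ≤ x ^ (k + 1) := by positivity
        linarith
      nlinarith
    refine ((hmono h.le).trans h0).trans ?_
    have : 0 ≤ B * (a * x ^ (L₀ + 1)) := by positivity
    linarith

/-- The constant of the count. -/
def cst (q : ℕ) : ℚ := if q = 2 then 9 else if q = 3 then 20 / 7 else 2

theorem uCount_le (q L n : ℕ) (hq : 2 ≤ q) : (uCount q (L + 1) n : ℚ) ≤ cst q * (q : ℚ) ^ n := by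
  refine (uCount_le_lead q hq L n).trans (mul_le_mul_of_nonneg_right ?_ (by positivity))
  rw [cst]
  split_ifs with h2 h3
  · subst h2
    refine lead_le _ 3 9 (by norm_num) (by norm_num) (by norm_num) (by norm_num) (by norm_num) 2 ?_ L
    norm_num [lead]
  · subst h3
    refine lead_le _ 2 (20 / 7) (by norm_num) (by norm_num) (by norm_num) (by norm_num) (by norm_num) 1 ?_ L
    norm_num [lead]
  · have hx : (q : ℚ)⁻¹ ≤ 1 / 4 := by
      rw [one_div]; exact inv_anti₀ (by norm_num) (by exact_mod_cast (show 4 ≤ q by omega))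
    have hx0 : (0 : ℚ) < (q : ℚ)⁻¹ := by positivity
    refine lead_le _ (5 / 3) 2 hx0 (by linarith) (by norm_num) (by norm_num) (by linarith) 1 ?_ L
    set x : ℚ := (q : ℚ)⁻¹
    rw [show lead x 1 = (1 + x) * ((1 + x ^ 2) / (1 - x)) by simp [lead]]
    rw [mul_div_assoc', div_le_iff₀ (by linarith)]
    nlinarith [mul_le_mul hx hx hx0.le (by norm_num), mul_nonneg (mul_nonneg hx0.le hx0.le) hx0.le]

theorem uBound_le (q n : ℕ) (hq : 2 ≤ q) (hn : 2 ≤ n) :
    100 * uBound q n n ≤ 826 * (q + 1) * q ^ (n - 1) := by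
  obtain ⟨L, rfl⟩ : ∃ L, n = L + 1 := ⟨n - 1, by omega⟩
  rw [Nat.add_sub_cancel]
  have hmem : ∀ d ∈ dset (q + 2) (L + 1), 2 ≤ d ∧ d ∣ q + 1 ∧ d ∣ L + 1 := fun d hd => by
    simp only [dset, mem_filter, mem_Icc] at hd
    exact ⟨hd.1.1, by simpa using hd.2.1, hd.2.2⟩
  rcases eq_or_lt_of_le hq with h2 | h2
  · subst h2
    have hsub : dset (2 + 2) (L + 1) ⊆ if 3 ∣ L + 1 then ({3} : Finset ℕ) else ∅ := fun d hd => by
      obtain ⟨h, h', h''⟩ := hmem d hd
      have : d ≤ 3 := Nat.le_of_dvd (by norm_num) h'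
      obtain rfl : d = 3 := by
        interval_cases d
        · norm_num at h'
        · rfl
      rw [if_pos h'']; simp
    by_cases h3 : 3 ∣ L + 1
    · obtain ⟨j, hj⟩ := h3
      have hcases : L = 2 ∨ L = 5 ∨ 8 ≤ L := by omega
      rcases hcases with rfl | rfl | h8
      · decide
      · decide
      · have hb : (uBound 2 (L + 1) (L + 1) : ℚ) ≤ 9 * 2 ^ (L + 1) + 72 * 2 ^ ((L + 1) / 3) := by
          rw [uBound]
          push_cast
          refine add_le_add ((uCount_le 2 L (L + 1) le_rfl).trans (le_of_eq (by norm_num [cst]))) ?_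
          rw [if_pos ⟨j, hj⟩] at hsub
          refine (Finset.sum_le_sum_of_subset_of_nonneg hsub fun d _ _ => by positivity).trans ?_
          rw [Finset.sum_singleton]
          have h1 := uCount_le 2 L ((L + 1) / 3) le_rfl
          norm_num [cst] at h1
          norm_num [wt]
          linarith
        have hp : 64 * (2 : ℚ) ^ ((L + 1) / 3) ≤ 2 ^ (L + 1) := by
          rw [show (64 : ℚ) = 2 ^ 6 by norm_num, ← pow_add]
          exact pow_le_pow_right₀ (by norm_num) (by omega)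
        have : (100 * uBound 2 (L + 1) (L + 1) : ℚ) ≤ (826 * (2 + 1) * 2 ^ L : ℕ) := by
          push_cast
          rw [pow_succ] at hb hp
          have hpos : (0 : ℚ) ≤ 2 ^ L := by positivity
          linarith
        exact_mod_cast this
    · rw [if_neg h3, Finset.subset_empty] at hsub
      have : (100 * uBound 2 (L + 1) (L + 1) : ℚ) ≤ (826 * (2 + 1) * 2 ^ L : ℕ) := by
        rw [uBound, hsub, Finset.sum_empty, add_zero]
        have h1 := uCount_le 2 L (L + 1) le_rfl
        norm_num [cst] at h1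
        rw [pow_succ] at h1
        push_cast
        have hpos : (0 : ℚ) ≤ 2 ^ L := by positivity
        linarith
      exact_mod_cast this
  rcases eq_or_lt_of_le (show 3 ≤ q by omega) with h3 | h3
  · subst h3
    have hsub : dset (3 + 2) (L + 1) ⊆ (({2, 4} : Finset ℕ).filter fun d => d ∣ L + 1) := fun d hd => by
      obtain ⟨h, h', h''⟩ := hmem d hd
      have : d ≤ 4 := Nat.le_of_dvd (by norm_num) h'
      rw [mem_filter, mem_insert, mem_singleton]
      refine ⟨?_, h''⟩
      interval_cases d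
      · exact Or.inl rfl
      · norm_num at h'
      · exact Or.inr rfl
    have hb : (uBound 3 (L + 1) (L + 1) : ℚ) ≤ 20 / 7 * (3 ^ (L + 1) * (1 + 1 + 4 / 9)) := by
      rw [uBound]
      push_cast
      refine (add_le_add (uCount_le 3 L (L + 1) (by norm_num))
        (Finset.sum_le_sum_of_subset_of_nonneg hsub fun d _ _ => by positivity)).trans ?_
      rw [Finset.sum_filter, Finset.sum_pair (by norm_num : (2 : ℕ) ≠ 4)]
      have h1 := uCount_le 3 L ((L + 1) / 2) (by norm_num)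
      have h2 := uCount_le 3 L ((L + 1) / 4) (by norm_num)
      norm_num [cst] at h1 h2 ⊢
      have hA : (if 2 ∣ L + 1 then (wt 2 : ℚ) * (uCount 3 (L + 1) ((L + 1) / 2) : ℚ) else 0) ≤
          20 / 7 * 3 ^ (L + 1) := by
        split_ifs with h
        · have hp : 3 * (3 : ℚ) ^ ((L + 1) / 2) ≤ 3 ^ (L + 1) := by
            rw [← pow_succ']; exact pow_le_pow_right₀ (by norm_num) (by omega)
          norm_num [wt]
          linarith
        · positivity
      have hB : (if 4 ∣ L + 1 then (wt 4 : ℚ) * (uCount 3 (L + 1) ((L + 1) / 4) : ℚ) else 0) ≤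
          20 / 7 * (4 / 9) * 3 ^ (L + 1) := by
        split_ifs with h
        · have hp : 27 * (3 : ℚ) ^ ((L + 1) / 4) ≤ 3 ^ (L + 1) := by
            rw [show (27 : ℚ) = 3 ^ 3 by norm_num, ← pow_add]
            exact pow_le_pow_right₀ (by norm_num) (by omega)
          norm_num [wt]
          linarith
        · positivity
      linarith
    have : (100 * uBound 3 (L + 1) (L + 1) : ℚ) ≤ (826 * (3 + 1) * 3 ^ L : ℕ) := by
      push_cast
      rw [pow_succ] at hb
      have hpos : (0 : ℚ) ≤ 3 ^ L := by positivity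
      linarith
    exact_mod_cast this
  · have hc : cst q = 2 := by rw [cst, if_neg (by omega), if_neg (by omega)]
    set Q : ℚ := (q : ℚ) with hQ
    have hQ4 : (4 : ℚ) ≤ Q := by rw [hQ]; exact_mod_cast (show 4 ≤ q by omega)
    have hQ0 : (0 : ℚ) < Q := by linarith
    have hterm : ∀ d ∈ dset (q + 2) (L + 1), (wt d : ℚ) * (uCount q (L + 1) ((L + 1) / d) : ℚ) ≤
        12 * Q ^ (L + 1) * (1 / 2) ^ d := fun d hd => by
      obtain ⟨hd2, -, hdn⟩ := hmem d hd
      refine (mul_le_mul_of_nonneg_left (uCount_le q L _ hq) (Nat.cast_nonneg _)).trans ?_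
      rw [hc]
      have he : (L + 1) / d + (d - 1) ≤ L + 1 := by
        obtain ⟨k, hk⟩ := hdn
        rw [hk, Nat.mul_div_cancel_left k (by omega)]
        obtain ⟨d', rfl⟩ : ∃ d', d = d' + 2 := ⟨d - 2, by omega⟩
        obtain ⟨k', rfl⟩ : ∃ k', k = k' + 1 := ⟨k - 1, by
          rcases Nat.eq_zero_or_pos k with rfl | h
          · simp at hk
          · omega⟩
        rw [Nat.add_mul, Nat.mul_succ, show d' + 2 - 1 = d' + 1 by omega]
        omega
      have hp : Q ^ ((L + 1) / d) * 4 ^ (d - 1) ≤ Q ^ (L + 1) :=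
        calc Q ^ ((L + 1) / d) * 4 ^ (d - 1) ≤ Q ^ ((L + 1) / d) * Q ^ (d - 1) :=
              mul_le_mul_of_nonneg_left (pow_le_pow_left₀ (by norm_num) hQ4 _) (by positivity)
          _ = Q ^ ((L + 1) / d + (d - 1)) := (pow_add _ _ _).symm
          _ ≤ _ := pow_le_pow_right₀ (by linarith) he
      have hw : ∀ e : ℕ, 2 * (wt (e + 2) : ℚ) ≤ 3 * 2 ^ (e + 2) := by
        intro e
        have hN : 2 * wt (e + 2) ≤ 3 * 2 ^ (e + 2) := by
          rcases Nat.lt_or_ge e 3 with h | h
          · interval_cases e <;> norm_num [wt]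
          · rw [wt, if_neg (by omega)]
            have hsq' : (e + 2) ^ 2 ≤ 6 * 2 ^ e := by
              induction e, h using Nat.le_induction with
              | base => norm_num
              | succ e he' ih => rw [pow_succ 2 e]; nlinarith
            rw [pow_add]
            omega
        exact_mod_cast hN
      obtain ⟨e, rfl⟩ : ∃ e, d = e + 2 := ⟨d - 2, by omega⟩
      rw [show e + 2 - 1 = e + 1 by omega] at hp
      have h2e : (0 : ℚ) < 2 ^ (e + 2) := by positivity
      have hwe := hw e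
      have h4 : (4 : ℚ) ^ (e + 1) * 4 = 2 ^ (e + 2) * 2 ^ (e + 2) := by
        rw [← mul_pow, ← pow_succ]
        norm_num
      rw [one_div, inv_pow, ← div_eq_mul_inv, le_div_iff₀ h2e]
      have hXpos : (0 : ℚ) ≤ Q ^ ((L + 1) / (e + 2)) := by positivity
      have e1 := mul_le_mul_of_nonneg_right hwe (mul_nonneg hXpos h2e.le)
      have e2 : 3 * 2 ^ (e + 2) * (Q ^ ((L + 1) / (e + 2)) * 2 ^ (e + 2)) =
          12 * (Q ^ ((L + 1) / (e + 2)) * 4 ^ (e + 1)) := by
        calc (3 : ℚ) * 2 ^ (e + 2) * (Q ^ ((L + 1) / (e + 2)) * 2 ^ (e + 2))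
            = 3 * Q ^ ((L + 1) / (e + 2)) * (2 ^ (e + 2) * 2 ^ (e + 2)) := by ring
          _ = _ := by rw [← h4]; ring
      calc (wt (e + 2) : ℚ) * (2 * Q ^ ((L + 1) / (e + 2))) * 2 ^ (e + 2)
          = 2 * (wt (e + 2) : ℚ) * (Q ^ ((L + 1) / (e + 2)) * 2 ^ (e + 2)) := by ring
        _ ≤ 3 * 2 ^ (e + 2) * (Q ^ ((L + 1) / (e + 2)) * 2 ^ (e + 2)) := e1
        _ ≤ 12 * Q ^ (L + 1) := by rw [e2]; exact mul_le_mul_of_nonneg_left hp (by norm_num)
    have hgeo : ∀ N : ℕ, ∑ d ∈ Finset.Ico 2 N, ((1 : ℚ) / 2) ^ d ≤ 1 / 2 := fun N => by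
      rcases Nat.lt_or_ge N 2 with hN | hN
      · rw [Finset.Ico_eq_empty (by omega), Finset.sum_empty]; norm_num
      · rw [geom_sum_Ico (by norm_num) hN]
        have : (0 : ℚ) ≤ (1 / 2) ^ N := by positivity
        rw [div_le_iff_of_neg (by norm_num)]
        linarith
    have hsum : ∑ d ∈ dset (q + 2) (L + 1), ((1 : ℚ) / 2) ^ d ≤ 1 / 2 := by
      refine le_trans (Finset.sum_le_sum_of_subset_of_nonneg (t := Finset.Ico 2 (L + 2)) (fun d hd => ?_)
        fun d _ _ => by positivity) (hgeo _)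
      simp only [dset, mem_filter, mem_Icc] at hd
      rw [mem_Ico]
      omega
    have hb : (uBound q (L + 1) (L + 1) : ℚ) ≤ 8 * Q ^ (L + 1) := by
      rw [uBound]
      push_cast
      refine (add_le_add (uCount_le q L (L + 1) hq) (Finset.sum_le_sum hterm)).trans ?_
      rw [← Finset.mul_sum, hc]
      have h1 := mul_le_mul_of_nonneg_left hsum (show (0 : ℚ) ≤ 12 * Q ^ (L + 1) by positivity)
      linarith
    have : (100 * uBound q (L + 1) (L + 1) : ℚ) ≤ (826 * (q + 1) * q ^ L : ℕ) := by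
      push_cast
      rw [pow_succ] at hb
      have hpos : (0 : ℚ) ≤ Q ^ L := by positivity
      nlinarith [mul_nonneg hpos hQ0.le]
    exact_mod_cast this

universe u

theorem su_bounds {F : Type u} [Field F] [Fintype F] {n q : ℕ} (hn : 2 ≤ n) (hF : Fintype.card F = q ^ 2) :
    q ^ (n - 1) ≤ Nat.card (ConjClasses ↥(Cfsg.SU n F q)) ∧
      100 * Nat.card (ConjClasses ↥(Cfsg.SU n F q)) ≤ 826 * q ^ (n - 1) := by
  refine ⟨le_card_su_classes (by omega) hF, Nat.le_of_mul_le_mul_left ?_ (show 0 < q + 1 by omega)⟩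
  have h1 := card_su_classes_le (K := F) (n := n) (by omega) hF
  have h2 := uBound_le q n (frob_facts hF).1 hn
  calc (q + 1) * (100 * Nat.card (ConjClasses ↥(Cfsg.SU n F q)))
      = 100 * ((q + 1) * Nat.card (ConjClasses ↥(Cfsg.SU n F q))) := by ring
    _ ≤ 100 * uBound q n n := Nat.mul_le_mul_left _ h1
    _ ≤ 826 * (q + 1) * q ^ (n - 1) := h2
    _ = (q + 1) * (826 * q ^ (n - 1)) := by ring

end CfsgLib.SUClassNumber
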