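import Cfsg.Agent.Lib.SUClassNumber.Dual
import Cfsg.Agent.Lib.UnitaryConj.Similar
import Cfsg.Agent.Lib.SemisimpleIso.UnitaryDet

/-!
Self-duality of the elementary divisors of a unitary element, and determinants of its unitary centraliser.
-/

set_option autoImplicit false
set_option linter.unusedSectionVars false

namespace CfsgLib.SUClassNumber

open Polynomial Matrix CfsgLib.GLClassNumber CfsgLib.SLClassNumber
open CfsgLib.SemisimpleUnitary (st)

universe u

variable {K : Type u} [Field K] {n : ℕ} {s : K →+* K}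

/-- Membership in the unitary group. -/
theorem mem_GU_iff [Fintype K] {q : ℕ} (hs : ∀ x, s x = x ^ q) (hs2 : ∀ x, s (s x) = x) (g : GL (Fin n) K) :
    g ∈ Cfsg.GU n K q ↔ st s g.1 * g.1 = 1 := by
  have hform : ∀ u v : Fin n → K, Cfsg.hermForm n K q u v = SemisimpleUnitary.hf s u v := fun u v => by
    simp [Cfsg.hermForm, SemisimpleUnitary.hf, dotProduct, hs]
  constructor
  · intro hg
    refine SemisimpleUnitary.ext_hf hs2 fun u v => ?_
    rw [← Matrix.mulVec_mulVec, ← SemisimpleUnitary.hf_adj hs2, Matrix.one_mulVec, ← hform, ← hform]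
    exact hg u v
  · intro hg u v
    show Cfsg.hermForm n K q (g.1 *ᵥ u) (g.1 *ᵥ v) = Cfsg.hermForm n K q u v
    rw [hform, hform, SemisimpleUnitary.hf_map hs2 hg]

/-- The Gram matrix of a semilinear pairing. -/
theorem pairing_matrix {R R' : Type u} [CommRing R] [CommRing R'] [Algebra K R] [Algebra K R']
    (hs2 : ∀ x, s (s x) = x) (ι : R ≃+* R') (hι : ∀ c : K, ι (algebraMap K R c) = algebraMap K R' (s c))
    (τ : R' →ₗ[K] K) (hτ : ∀ b, (∀ a, τ (a * b) = 0) → b = 0)
    (T : (Fin n → K) ≃ₗ[K] R) (T' : (Fin n → K) ≃ₗ[K] R') :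
    ∃ P : Matrix (Fin n) (Fin n) K, IsUnit P ∧ ∀ (A A' : Matrix (Fin n) (Fin n) K) (a : R) (b : R'),
      (∀ v, T (A *ᵥ v) = a * T v) → (∀ v, T' (A' *ᵥ v) = b * T' v) → ι a * b = 1 → st s A * P * A' = P := by
  classical
  let P : Matrix (Fin n) (Fin n) K := Matrix.of fun i j => τ (ι (T (Pi.single i 1)) * T' (Pi.single j 1))
  have hv : ∀ v : Fin n → K, v = ∑ i, v i • Pi.single i (1 : K) := fun v =>
    pi_eq_sum_univ' v
  have key : ∀ v w, τ (ι (T v) * T' w) = (s ∘ v) ⬝ᵥ (P *ᵥ w) := fun v w => by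
    conv_lhs => rw [hv v, hv w]
    simp only [map_sum, map_smul, Finset.sum_mul, Finset.mul_sum, dotProduct, Matrix.mulVec, P, Matrix.of_apply,
      Function.comp_apply]
    rw [Finset.sum_comm]
    refine Finset.sum_congr rfl fun i _ => Finset.sum_congr rfl fun j _ => ?_
    rw [Algebra.smul_def (v i), map_mul ι, hι, mul_assoc, ← Algebra.smul_def, map_smul, mul_smul_comm, map_smul,
      smul_eq_mul, smul_eq_mul]
    ring
  refine ⟨P, ?_, fun A A' a b hA hA' hab => ?_⟩
  · rw [Matrix.isUnit_iff_isUnit_det, isUnit_iff_ne_zero]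
    intro h0
    obtain ⟨w, hw0, hw⟩ := Matrix.exists_mulVec_eq_zero_iff.mpr h0
    refine hw0 (T'.injective ?_)
    rw [map_zero]
    refine hτ _ fun c => ?_
    obtain ⟨r, rfl⟩ := ι.surjective c
    obtain ⟨v, rfl⟩ := T.surjective r
    rw [key, hw, dotProduct_zero]
  · ext i j
    have h1 : τ (ι (T (A *ᵥ Pi.single i 1)) * T' (A' *ᵥ Pi.single j 1)) = P i j := by
      rw [hA, hA', map_mul ι, mul_mul_mul_comm, hab, one_mul]
      rfl
    rw [key] at h1
    rw [← h1]
    rw [Matrix.mulVec_single_one, Matrix.mulVec_single_one, dotProduct, Matrix.mul_assoc, Matrix.mul_apply]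
    refine Finset.sum_congr rfl fun k _ => ?_
    congr 1

/-- A Hermitian matrix preserved by everything preserving a given invertible one. -/
theorem exists_herm_all [Fintype K] (hs2 : ∀ x, s (s x) = x) (hne : ∃ a, s a ≠ a) (P : GL (Fin n) K) :
    ∃ H : GL (Fin n) K, st s H.1 = H.1 ∧ ∀ A : GL (Fin n) K, st s A.1 * P.1 * A.1 = P.1 →
      st s A.1 * H.1 * A.1 = H.1 := by
  classical
  have st_mul : ∀ M N : Matrix (Fin n) (Fin n) K, st s (M * N) = st s N * st s M := SemisimpleUnitary.st_mul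
  have st_st : ∀ M : Matrix (Fin n) (Fin n) K, st s (st s M) = M := SemisimpleUnitary.st_st hs2
  have st_one : st s (1 : Matrix (Fin n) (Fin n) K) = 1 := SemisimpleUnitary.st_one
  let stu : GL (Fin n) K → GL (Fin n) K := fun g => ⟨st s g.1, st s (g⁻¹).1,
    by rw [← st_mul, Units.inv_mul, st_one], by rw [← st_mul, Units.mul_inv, st_one]⟩
  set J : GL (Fin n) K := P⁻¹ * stu P with hJdef
  have hJv : J.1 = (P⁻¹).1 * st s P.1 := rfl
  let τ : Matrix (Fin n) (Fin n) K → Matrix (Fin n) (Fin n) K := fun M => (P⁻¹).1 * st s M * P.1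
  have τ_mul : ∀ M N, τ (M * N) = τ N * τ M := fun M N => by
    simp only [τ, st_mul, mul_assoc, Units.mul_inv_cancel_left]
  have τ_add : ∀ M N, τ (M + N) = τ M + τ N := fun M N => by
    simp only [τ, SemisimpleUnitary.st_add, mul_add, add_mul]
  have τ_alg : ∀ c : K, τ (algebraMap K _ c) = algebraMap K _ (s c) := fun c => by
    have e : st s (algebraMap K (Matrix (Fin n) (Fin n) K) c) = algebraMap K _ (s c) := by
      ext i j; simp [st, Algebra.algebraMap_eq_smul_one, Matrix.one_apply, eq_comm, apply_ite s]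
    simp only [τ, e]
    rw [← Algebra.commutes, mul_assoc, Units.inv_mul, mul_one]
  have τJ : τ J.1 = (J⁻¹).1 := by
    show (P⁻¹).1 * st s ((P⁻¹).1 * st s P.1) * P.1 = st s (P⁻¹).1 * (P⁻¹⁻¹).1
    rw [st_mul, st_st, inv_inv, ← mul_assoc, Units.inv_mul, one_mul]
  set S := Algebra.adjoin K ({J.1} : Set (Matrix (Fin n) (Fin n) K)) with hS
  have hJS : J.1 ∈ S := Algebra.subset_adjoin rfl
  have hJinv : (J⁻¹).1 ∈ S := by
    have h1 : J⁻¹ = J ^ (orderOf J - 1) :=
      inv_eq_of_mul_eq_one_right (by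
        rw [← pow_succ', Nat.sub_add_cancel (orderOf_pos J), pow_orderOf_eq_one])
    rw [h1, Units.val_pow_eq_pow_val]
    exact pow_mem hJS _
  have τ_mem : ∀ x ∈ S, τ x ∈ S := by
    intro x hx
    induction hx using Algebra.adjoin_induction with
    | mem y hy => rw [Set.mem_singleton_iff] at hy; rw [hy, τJ]; exact hJinv
    | algebraMap c => rw [τ_alg]; exact S.algebraMap_mem _
    | add y z _ _ hy hz => rw [τ_add]; exact add_mem hy hz
    | mul y z _ _ hy hz => rw [τ_mul]; exact mul_mem hz hy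
  have hcomm : ∀ x ∈ S, ∀ y ∈ S, x * y = y * x := fun x hx y hy => by
    refine Algebra.commute_of_mem_adjoin_of_forall_mem_commute hy fun b hb => ?_
    rw [Set.mem_singleton_iff] at hb
    rw [hb]
    exact (Algebra.commute_of_mem_adjoin_singleton_of_commute hx (Commute.refl J.1)).symm
  have τ_one : τ 1 = 1 := by rw [← map_one (algebraMap K (Matrix (Fin n) (Fin n) K)), τ_alg, map_one, map_one]
  have τ_zero : τ 0 = 0 := by
    rw [← map_zero (algebraMap K (Matrix (Fin n) (Fin n) K)), τ_alg, map_zero, map_zero]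
  let τR : S →+* S :=
    { toFun := fun x => ⟨τ x.1, τ_mem _ x.2⟩
      map_one' := Subtype.ext τ_one
      map_mul' := fun x y => Subtype.ext (by
        show τ (x.1 * y.1) = τ x.1 * τ y.1
        rw [hcomm x.1 x.2 y.1 y.2, τ_mul])
      map_zero' := Subtype.ext τ_zero
      map_add' := fun x y => Subtype.ext (τ_add x.1 y.1) }
  letI : CommRing S :=
    { (inferInstance : Ring S) with mul_comm := fun x y => Subtype.ext (hcomm x.1 x.2 y.1 y.2) }
  have ττ : ∀ x : S, τR (τR x) = x := fun x => Subtype.ext (by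
    show (P⁻¹).1 * st s ((P⁻¹).1 * st s x.1 * P.1) * P.1 = x.1
    rw [st_mul, st_mul, st_st]
    have e : (P⁻¹).1 * (st s P.1 * (x.1 * st s (P⁻¹).1)) * P.1 = J.1 * x.1 * (J⁻¹).1 := by
      rw [hJv, show (J⁻¹).1 = st s (P⁻¹).1 * (P⁻¹⁻¹).1 from rfl, inv_inv]
      simp only [mul_assoc]
    rw [e, hcomm J.1 hJS x.1 x.2, Units.mul_inv_cancel_right])
  obtain ⟨x, hx⟩ := UnitaryConj.exists_unit_add s (algebraMap K S) τR hne ττ
    (fun c => Subtype.ext (τ_alg c)) ⟨J.1, hJS⟩ (Subtype.ext (by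
      show τ J.1 * J.1 = 1
      rw [τJ, Units.inv_mul]))
  set c : Matrix (Fin n) (Fin n) K := x.1 + τ x.1 * J.1 with hc
  obtain ⟨cu, hcu⟩ : IsUnit c := hx.map S.val
  refine ⟨P * cu, ?_, fun A h' => ?_⟩
  · show st s (P.1 * cu.1) = P.1 * cu.1
    rw [hcu, st_mul]
    have e : st s c * st s P.1 = P.1 * (τ c * J.1) := by
      show _ = P.1 * ((P⁻¹).1 * st s c * P.1 * ((P⁻¹).1 * st s P.1))
      simp only [mul_assoc, Units.mul_inv_cancel_left]
    rw [e]
    congr 1
    rw [hc, τ_add, τ_mul, τJ, add_mul, add_comm]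
    congr 1
    · rw [show τ (τ x.1) = x.1 from congrArg Subtype.val (ττ x), hcomm _ hJinv x.1 x.2,
        Units.inv_mul_cancel_right]
  · have hPA : (P⁻¹).1 * st s A.1 = (A⁻¹).1 * (P⁻¹).1 := by
      calc (P⁻¹).1 * st s A.1 = (P⁻¹).1 * (st s A.1 * P.1 * A.1) * (A⁻¹).1 * (P⁻¹).1 := by
            simp only [mul_assoc, Units.mul_inv_cancel_left, Units.mul_inv, mul_one]
        _ = _ := by rw [h', Units.inv_mul, one_mul]
    have h2 : st s A.1 * st s P.1 * A.1 = st s P.1 := by
      have := congrArg (st s) h'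
      rwa [st_mul, st_mul, st_st, ← mul_assoc] at this
    have hAJ : Commute A.1 J.1 := by
      show A.1 * J.1 = J.1 * A.1
      rw [hJv]
      calc A.1 * ((P⁻¹).1 * st s P.1) = A.1 * ((P⁻¹).1 * (st s A.1 * st s P.1 * A.1)) := by rw [h2]
        _ = A.1 * ((P⁻¹).1 * st s A.1) * st s P.1 * A.1 := by simp only [mul_assoc]
        _ = (P⁻¹).1 * st s P.1 * A.1 := by rw [hPA, ← mul_assoc, Units.mul_inv, one_mul]
    have hcS : c ∈ S := add_mem x.2 (mul_mem (τ_mem _ x.2) hJS)
    have hcA : Commute A.1 c := Algebra.commute_of_mem_adjoin_singleton_of_commute hcS hAJ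
    show st s A.1 * (P.1 * cu.1) * A.1 = P.1 * cu.1
    rw [hcu, mul_assoc, mul_assoc, ← hcA.eq, ← mul_assoc, ← mul_assoc, h']

/-- A pair preserving one invertible matrix gives a unitary element of the centraliser with the same determinant. -/
theorem exists_unitary_cent [Fintype K] (hs2 : ∀ x, s (s x) = x) (hne : ∃ a, s a ≠ a)
    (g A P : GL (Fin n) K) (hg : st s g.1 * g.1 = 1) (hgP : st s g.1 * P.1 * g.1 = P.1)
    (hAP : st s A.1 * P.1 * A.1 = P.1) (hgA : g * A = A * g) :
    ∃ u : GL (Fin n) K, st s u.1 * u.1 = 1 ∧ g * u = u * g ∧ u.1.det = A.1.det := by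
  classical
  obtain ⟨H, hH, hHall⟩ := exists_herm_all hs2 hne P
  have hgH : Commute g.1 H.1 := by
    have h1 := hHall g hgP
    show g.1 * H.1 = H.1 * g.1
    calc g.1 * H.1 = g.1 * (st s g.1 * H.1 * g.1) := by rw [h1]
      _ = g.1 * st s g.1 * H.1 * g.1 := by simp only [mul_assoc]
      _ = H.1 * g.1 := by rw [mul_eq_one_comm.mp hg, one_mul]
  set N := orderOf H with hN
  obtain ⟨p, hp⟩ := UnitaryConj.exists_norm hs2 hne (N := N) (orderOf_pos H).ne'
  have hHN : H.1 ^ N = 1 := by rw [← Units.val_pow_eq_pow_val, hN, pow_orderOf_eq_one, Units.val_one]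
  have st_smul : ∀ (c : K) (M : Matrix (Fin n) (Fin n) K), st s (c • M) = s c • st s M := fun c M => by
    ext u v; simp [st]
  have st_pow : ∀ i, st s (H.1 ^ i) = H.1 ^ i := by
    intro i
    induction i with
    | zero => simpa using (SemisimpleUnitary.st_one (K := K) (n := n) (s := s))
    | succ i ih => rw [pow_succ, SemisimpleUnitary.st_mul, ih, hH, ← pow_succ']; exact pow_succ H.1 i
  have st_aeval : ∀ t : K[X], st s (aeval H.1 t) = aeval H.1 (t.map s) := by
    intro t
    induction t using Polynomial.induction_on' with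
    | add u v hu hv => rw [map_add, Polynomial.map_add, map_add, SemisimpleUnitary.st_add, hu, hv]
    | monomial i c =>
      rw [Polynomial.map_monomial, aeval_monomial, aeval_monomial, ← Algebra.smul_def, ← Algebra.smul_def,
        st_smul, st_pow i]
  set Z := aeval H.1 p with hZ
  have hZZ : st s Z * Z = H.1 := by
    have e := congrArg (aeval H.1) (dvd_def.mp hp).choose_spec
    simp only [map_sub, map_mul, map_pow, aeval_X, map_one, hHN, sub_self, zero_mul, sub_eq_zero] at e
    rw [hZ, st_aeval, ← map_mul, mul_comm (p.map s), map_mul, e]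
  have hZu : IsUnit Z := by
    rw [Matrix.isUnit_iff_isUnit_det]
    have h0 := (Matrix.isUnit_iff_isUnit_det _).mp H.isUnit
    rw [← hZZ, det_mul] at h0
    exact isUnit_of_mul_isUnit_right h0
  have hzg : Commute g.1 Z := by
    rw [hZ]
    exact Algebra.commute_of_mem_adjoin_singleton_of_commute (aeval_mem_adjoin_singleton K H.1) hgH
  obtain ⟨z, hz⟩ := hZu
  have hzg' : Commute g z := Units.ext (by rw [Units.val_mul, Units.val_mul, hz]; exact hzg.eq)
  refine ⟨z * A * z⁻¹, ?_, ((hzg'.mul_right (show Commute g A from hgA)).mul_right hzg'.inv_right).eq, ?_⟩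
  · simp only [Units.val_mul, SemisimpleUnitary.st_mul]
    calc st s (z⁻¹).1 * (st s A.1 * st s z.1) * (z.1 * A.1 * (z⁻¹).1) =
        st s (z⁻¹).1 * (st s A.1 * (st s z.1 * z.1) * A.1) * (z⁻¹).1 := by simp only [mul_assoc]
      _ = st s (z⁻¹).1 * (st s z.1 * z.1) * (z⁻¹).1 := by rw [hz, hZZ, hHall A hAP]
      _ = 1 := by
        rw [← mul_assoc (st s (z⁻¹).1), ← SemisimpleUnitary.st_mul, Units.mul_inv, SemisimpleUnitary.st_one,
          one_mul, Units.mul_inv]
  · simp only [Units.val_mul, det_mul]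
    rw [mul_right_comm, ← det_mul, Units.mul_inv, det_one, one_mul]

end CfsgLib.SUClassNumber
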