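import Cfsg.Agent.Lib.SUClassNumber.Dual
import Cfsg.Agent.Lib.SLClassNumber.Tuples

/-!
Tuples of self-dual polynomials: their number and the equidistribution of their determinants.
-/

set_option autoImplicit false
set_option linter.unusedSectionVars false

namespace CfsgLib.SUClassNumber

open Polynomial CfsgLib.GLClassNumber CfsgLib.SLClassNumber

universe u

variable {K : Type u} [Field K]

/-- Self-duality in coefficients. -/
def IsSD (q : ℕ) (p : K[X]) : Prop :=
  p.Monic ∧ p.coeff 0 ≠ 0 ∧ ∀ i ≤ p.natDegree, p.coeff i = p.coeff 0 * p.coeff (p.natDegree - i) ^ q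

/-- Tuples of self-dual polynomials of weight `m`. -/
def UTuple (K : Type u) [Field K] (q L m : ℕ) : Type u :=
  {g : Fin L → K[X] // (∀ i, IsSD q (g i)) ∧ ∑ i : Fin L, ((i : ℕ) + 1) * (g i).natDegree = m}

theorem isSD_one (q : ℕ) : IsSD q (1 : K[X]) := by
  refine ⟨monic_one, by simp, fun i hi => ?_⟩
  rw [natDegree_one, Nat.le_zero] at hi
  subst hi
  simp

theorem isSD_of_dual [Fintype K] {q : ℕ} {s : K →+* K} (hs : ∀ x, s x = x ^ q) {p : K[X]} (hp : p.Monic)
    (hp0 : p.coeff 0 ≠ 0) (h : dualP s p = p) : IsSD q p := by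
  have h0 : p.coeff 0 = (s (p.coeff 0))⁻¹ := by
    conv_lhs => rw [← h]
    exact coeff_zero_dualP hp
  refine ⟨hp, hp0, fun i hi => ?_⟩
  rw [dualP_coeff_of_self h hi, ← h0, hs]

theorem IsSD.coeff_zero_pow {q : ℕ} {p : K[X]} (h : IsSD q p) : p.coeff 0 ^ (q + 1) = 1 := by
  have := h.2.2 p.natDegree le_rfl
  rw [Nat.sub_self, h.1.coeff_natDegree] at this
  rw [pow_succ', ← this]

/-- Number of self-dual polynomials of degree `d`. -/
def hB (q : ℕ) : ℕ → ℕ
  | 0 => 1
  | d + 1 => (q + 1) * q ^ d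

/-- Number of tuples of self-dual polynomials. -/
def uCount (q : ℕ) : ℕ → ℕ → ℕ
  | 0, n => if n = 0 then 1 else 0
  | L + 1, n => ∑ d ∈ Finset.range (n / (L + 1) + 1), hB q d * uCount q L (n - (L + 1) * d)

variable [Fintype K] {q : ℕ}

theorem card_sd_le (hK : Fintype.card K = q ^ 2) {s : K →+* K} (hs : ∀ x, s x = x ^ q)
    (hne : ∃ a, s a ≠ a) (d : ℕ) :
    Finite {p : K[X] // IsSD q p ∧ p.natDegree = d} ∧
      Nat.card {p : K[X] // IsSD q p ∧ p.natDegree = d} ≤ hB q d := by
  classical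
  have hs2 : ∀ x, s (s x) = x := fun x => by rw [hs, hs, ← pow_mul, ← sq, ← hK, FiniteField.pow_card]
  rcases d with _ | m
  · haveI : Subsingleton {p : K[X] // IsSD q p ∧ p.natDegree = 0} := ⟨fun a b => Subtype.ext (by
      rw [eq_one_of_monic_natDegree_zero a.2.1.1 a.2.2, eq_one_of_monic_natDegree_zero b.2.1.1 b.2.2])⟩
    exact ⟨inferInstance, Finite.card_le_one_iff_subsingleton.mpr inferInstance⟩
  let E := {e : Kˣ // e ^ (q + 1) = 1}
  let W : E → Type u := fun e => {v : Fin m → K // ∀ i, v i = (e.1 : K) * s (v i.rev)}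
  have hW : ∀ e, Nat.card (W e) ≤ q ^ m := fun e => by
    obtain ⟨θ, hθ⟩ := hne
    let f : W e × W e → (Fin m → K) := fun x i => x.1.1 i + θ * x.2.1 i
    have hinj : Function.Injective f := by
      intro x y hxy
      have hb : x.2.1 = y.2.1 := funext fun i => by
        have e1 : x.1.1 i + θ * x.2.1 i = y.1.1 i + θ * y.2.1 i := congrFun hxy i
        have e2 : x.1.1 i.rev + θ * x.2.1 i.rev = y.1.1 i.rev + θ * y.2.1 i.rev := congrFun hxy i.rev
        have e3 := congrArg (fun t => (e.1 : K) * s t) e2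
        simp only [map_add, map_mul, mul_add] at e3
        rw [← x.1.2 i, ← y.1.2 i, mul_left_comm, mul_left_comm (e.1 : K) (s θ), ← x.2.2 i, ← y.2.2 i] at e3
        refine mul_left_cancel₀ (sub_ne_zero.mpr (Ne.symm hθ)) ?_
        linear_combination e1 - e3
      have ha : x.1.1 = y.1.1 := funext fun i => by
        have e1 : x.1.1 i + θ * x.2.1 i = y.1.1 i + θ * y.2.1 i := congrFun hxy i
        rw [hb] at e1
        exact add_right_cancel e1
      exact Prod.ext (Subtype.ext ha) (Subtype.ext hb)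
    have h := Nat.card_le_card_of_injective f hinj
    rw [Nat.card_prod, Nat.card_fun, Nat.card_eq_fintype_card (α := K), Nat.card_fin, hK, ← pow_mul,
      mul_comm 2 m, pow_mul, ← sq] at h
    exact (Nat.pow_le_pow_iff_left two_ne_zero).mp h
  have hE : Nat.card E ≤ q + 1 := by
    show Nat.card ((powMonoidHom (q + 1) : Kˣ →* Kˣ).ker) ≤ q + 1
    rw [IsCyclic.card_powMonoidHom_ker]
    exact Nat.le_of_dvd (by omega) (Nat.gcd_dvd_right _ _)
  let F : {p : K[X] // IsSD q p ∧ p.natDegree = m + 1} → Σ e : E, W e := fun p =>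
    ⟨⟨Units.mk0 (p.1.coeff 0) p.2.1.2.1, Units.ext (by simpa using p.2.1.coeff_zero_pow)⟩,
      ⟨fun i => p.1.coeff ((i : ℕ) + 1), fun i => by
        have hi := i.2
        show p.1.coeff ((i : ℕ) + 1) = p.1.coeff 0 * s (p.1.coeff ((i.rev : ℕ) + 1))
        rw [p.2.1.2.2 _ (by rw [p.2.2]; omega), p.2.2, hs, Fin.val_rev]
        congr 3
        omega⟩⟩
  have hF : Function.Injective F := fun a b h => by
    have h0 : a.1.coeff 0 = b.1.coeff 0 := congrArg (fun z : Σ e : E, W e => ((z.1.1 : Kˣ) : K)) h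
    have h1 : (fun i : Fin m => a.1.coeff ((i : ℕ) + 1)) = fun i : Fin m => b.1.coeff ((i : ℕ) + 1) :=
      congrArg (fun z : Σ e : E, W e => z.2.1) h
    refine Subtype.ext (Polynomial.ext fun i => ?_)
    rcases Nat.eq_zero_or_pos i with rfl | hi
    · exact h0
    obtain ⟨j, rfl⟩ : ∃ j, i = j + 1 := ⟨i - 1, by omega⟩
    rcases lt_trichotomy j m with hj | rfl | hj
    · exact congrFun h1 ⟨j, hj⟩
    · have ha := a.2.1.1.coeff_natDegree
      have hb := b.2.1.1.coeff_natDegree
      rw [a.2.2] at ha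
      rw [b.2.2] at hb
      rw [ha, hb]
    · rw [coeff_eq_zero_of_natDegree_lt (by rw [a.2.2]; omega), coeff_eq_zero_of_natDegree_lt (by rw [b.2.2]; omega)]
  refine ⟨Finite.of_injective F hF, (Nat.card_le_card_of_injective F hF).trans ?_⟩
  letI : Fintype E := Fintype.ofFinite _
  rw [Nat.card_sigma]
  refine (Finset.sum_le_card_nsmul _ _ _ fun e _ => hW e).trans ?_
  rw [smul_eq_mul, Finset.card_univ, ← Nat.card_eq_fintype_card, hB]
  exact Nat.mul_le_mul_right _ hE

theorem uTuple_card_le (hK : Fintype.card K = q ^ 2) {s : K →+* K} (hs : ∀ x, s x = x ^ q)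
    (hne : ∃ a, s a ≠ a) (L : ℕ) : ∀ n : ℕ,
    Finite (UTuple K q L n) ∧ Nat.card (UTuple K q L n) ≤ uCount q L n := by
  induction L with
  | zero =>
    intro n
    have hsub : Subsingleton (UTuple K q 0 n) := ⟨fun a b => Subtype.ext (Subsingleton.elim _ _)⟩
    refine ⟨inferInstance, ?_⟩
    rw [uCount]
    split_ifs with h
    · exact Finite.card_le_one_iff_subsingleton.mpr hsub
    · have : IsEmpty (UTuple K q 0 n) := ⟨fun a => h (by have := a.2.2; simp at this; omega)⟩
      simp
  | succ L ih =>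
    intro n
    have hle : ∀ a : UTuple K q (L + 1) n,
        (L + 1) * (a.1 (Fin.last L)).natDegree ≤ n ∧
          ∑ i : Fin L, ((i : ℕ) + 1) * (a.1 i.castSucc).natDegree =
            n - (L + 1) * (a.1 (Fin.last L)).natDegree := fun a => by
      have h := a.2.2
      rw [Fin.sum_univ_castSucc] at h
      simp only [Fin.val_castSucc, Fin.val_last] at h
      omega
    let f : UTuple K q (L + 1) n → Σ d : Fin (n / (L + 1) + 1),
        {p : K[X] // IsSD q p ∧ p.natDegree = (d : ℕ)} × UTuple K q L (n - (L + 1) * d) := fun a =>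
      ⟨⟨(a.1 (Fin.last L)).natDegree, Nat.lt_succ_of_le
          ((Nat.le_div_iff_mul_le (Nat.succ_pos L)).mpr (by rw [mul_comm]; exact (hle a).1))⟩,
        ⟨a.1 (Fin.last L), a.2.1 _, rfl⟩,
        ⟨fun i => a.1 i.castSucc, fun i => a.2.1 _, (hle a).2⟩⟩
    have hf : Function.Injective f := fun a b h => by
      have h1 : a.1 (Fin.last L) = b.1 (Fin.last L) := congrArg (fun z => z.2.1.1) h
      have h2 : (fun i : Fin L => a.1 i.castSucc) = fun i => b.1 i.castSucc :=
        congrArg (fun z => z.2.2.1) h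
      exact Subtype.ext (funext fun i => Fin.lastCases h1 (fun j => congrFun h2 j) i)
    have : ∀ d : Fin (n / (L + 1) + 1), Finite {p : K[X] // IsSD q p ∧ p.natDegree = (d : ℕ)} :=
      fun d => (card_sd_le hK hs hne _).1
    have : ∀ d : Fin (n / (L + 1) + 1), Finite (UTuple K q L (n - (L + 1) * d)) := fun d => (ih _).1
    refine ⟨Finite.of_injective f hf, (Nat.card_le_card_of_injective f hf).trans ?_⟩
    rw [Nat.card_sigma, uCount]
    rw [← Fin.sum_univ_eq_sum_range (fun d => hB q d * uCount q L (n - (L + 1) * d))]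
    refine Finset.sum_le_sum fun d _ => ?_
    rw [Nat.card_prod]
    exact Nat.mul_le_mul (card_sd_le hK hs hne _).2 (ih _).2

variable {L m : ℕ}

/-- The weights carrying a nontrivial polynomial. -/
noncomputable def uSupport (T : UTuple K q L m) : Finset ℕ :=
  ((Finset.univ : Finset (Fin L)).filter fun j => 0 < (T.1 j).natDegree).image fun j : Fin L => (j : ℕ) + 1

/-- The weight of a tuple. -/
noncomputable def uGcd (T : UTuple K q L m) : ℕ :=
  Nat.gcd (q + 1) ((uSupport T).gcd id)

/-- The determinant attached to a tuple. -/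
noncomputable def uDet (σ : ℕ → K) (T : UTuple K q L m) : K :=
  ∏ j : Fin L, (σ (T.1 j).natDegree * (T.1 j).coeff 0) ^ ((j : ℕ) + 1)

/-- Rescaling of a self-dual polynomial. -/
noncomputable def hscale (q : ℕ) (l : Kˣ) (p : K[X]) : K[X] :=
  if 0 < p.natDegree then
    C ((l⁻¹ : Kˣ) : K) * p + C (1 - ((l⁻¹ : Kˣ) : K)) * X ^ p.natDegree +
      C ((((l ^ (q - 1) : Kˣ) : K) - ((l⁻¹ : Kˣ) : K)) * p.coeff 0)
  else p

omit [Fintype K] in
theorem coeff_hscale (l : Kˣ) {p : K[X]} (hp : p.Monic) (hd : 0 < p.natDegree) (i : ℕ) :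
    (hscale q l p).coeff i = if i = 0 then ((l ^ (q - 1) : Kˣ) : K) * p.coeff 0
      else if i = p.natDegree then 1 else ((l⁻¹ : Kˣ) : K) * p.coeff i := by
  rw [hscale, if_pos hd, coeff_add, coeff_add, coeff_C_mul, coeff_C_mul, coeff_X_pow, coeff_C]
  by_cases h0 : i = 0
  · subst h0
    rw [if_neg (by omega), if_pos rfl, if_pos rfl]; ring
  by_cases h1 : i = p.natDegree
  · rw [if_pos h1, if_neg h0, if_neg h0, if_pos h1, h1, hp.coeff_natDegree]; ring
  · rw [if_neg h1, if_neg h0, if_neg h0, if_neg h1]; ring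

omit [Fintype K] in
theorem natDegree_hscale (l : Kˣ) {p : K[X]} (hp : p.Monic) : (hscale q l p).natDegree = p.natDegree := by
  by_cases hd : 0 < p.natDegree
  · refine le_antisymm (natDegree_le_iff_coeff_eq_zero.mpr fun i hi => ?_) (le_natDegree_of_ne_zero ?_)
    · rw [coeff_hscale l hp hd, if_neg (by omega), if_neg (by omega), coeff_eq_zero_of_natDegree_lt hi, mul_zero]
    · rw [coeff_hscale l hp hd, if_neg (by omega), if_pos rfl]; exact one_ne_zero
  · rw [hscale, if_neg hd]

omit [Fintype K] in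
theorem coeff_zero_hscale (l : Kˣ) {p : K[X]} (hp : p.Monic) :
    (hscale q l p).coeff 0 = (if 0 < p.natDegree then ((l ^ (q - 1) : Kˣ) : K) else 1) * p.coeff 0 := by
  by_cases hd : 0 < p.natDegree
  · rw [coeff_hscale l hp hd, if_pos rfl, if_pos hd]
  · rw [if_neg hd, one_mul, hscale, if_neg hd]

omit [Fintype K] in
theorem monic_hscale (l : Kˣ) {p : K[X]} (hp : p.Monic) : (hscale q l p).Monic := by
  by_cases hd : 0 < p.natDegree
  · rw [Monic, leadingCoeff, natDegree_hscale l hp, coeff_hscale l hp hd, if_neg (by omega), if_pos rfl]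
  · rw [hscale, if_neg hd]; exact hp

theorem isSD_hscale (hK : Fintype.card K = q ^ 2) (l : Kˣ) {p : K[X]} (h : IsSD q p) :
    IsSD q (hscale q l p) := by
  classical
  by_cases hd : 0 < p.natDegree
  swap
  · rwa [hscale, if_neg hd]
  have hq : 1 ≤ q := by
    rcases Nat.eq_zero_or_pos q with h0 | h0
    · have := Fintype.one_lt_card (α := K); rw [hK, h0] at this; simp at this
    · exact h0
  have hω : (l ^ (q - 1)) * l⁻¹ ^ q = l⁻¹ := by
    rw [inv_pow, mul_inv_eq_iff_eq_mul, eq_inv_mul_iff_mul_eq, ← pow_succ', Nat.sub_add_cancel hq]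
  have hω1 : (l ^ (q - 1)) * (l ^ (q - 1)) ^ q = 1 := by
    rw [← pow_succ', ← pow_mul,
      show (q - 1) * (q + 1) = Fintype.card Kˣ by
        obtain ⟨r, rfl⟩ : ∃ r, q = r + 1 := ⟨q - 1, by omega⟩
        rw [Fintype.card_units, hK, Nat.add_sub_cancel,
          show (r + 1) ^ 2 = r * (r + 1 + 1) + 1 by ring, Nat.add_sub_cancel],
      pow_card_eq_one]
  refine ⟨monic_hscale l h.1, ?_, fun i hi => ?_⟩
  · rw [coeff_zero_hscale l h.1, if_pos hd]; exact mul_ne_zero (Units.ne_zero _) h.2.1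
  rw [natDegree_hscale l h.1] at hi ⊢
  rcases Nat.eq_zero_or_pos i with rfl | hi0
  · rw [Nat.sub_zero, coeff_hscale l h.1 hd p.natDegree, if_neg (by omega), if_pos rfl, one_pow, mul_one]
  rcases eq_or_lt_of_le hi with rfl | hlt
  · rw [Nat.sub_self, coeff_hscale l h.1 hd p.natDegree, if_neg (by omega), if_pos rfl, coeff_hscale l h.1 hd 0,
      if_pos rfl, mul_pow, mul_mul_mul_comm, ← Units.val_pow_eq_pow_val, ← Units.val_mul, hω1, Units.val_one,
      one_mul, ← pow_succ', h.coeff_zero_pow]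
  · rw [coeff_hscale l h.1 hd i, if_neg (by omega), if_neg (by omega), coeff_hscale l h.1 hd 0, if_pos rfl,
      coeff_hscale l h.1 hd (p.natDegree - i), if_neg (by omega), if_neg (by omega), h.2.2 i hi, mul_pow,
      mul_mul_mul_comm, ← Units.val_pow_eq_pow_val, ← Units.val_mul, hω]

omit [Fintype K] in
theorem hscale_hscale (a b : Kˣ) {p : K[X]} (hp : p.Monic) : hscale q a (hscale q b p) = hscale q (a * b) p := by
  by_cases hd : 0 < p.natDegree
  · have hd' : 0 < (hscale q b p).natDegree := by rwa [natDegree_hscale b hp]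
    refine Polynomial.ext fun i => ?_
    rw [coeff_hscale a (monic_hscale b hp) hd', coeff_hscale (a * b) hp hd, natDegree_hscale b hp]
    by_cases h1 : i = 0
    · rw [if_pos h1, if_pos h1, coeff_hscale b hp hd, if_pos rfl, mul_pow, Units.val_mul]; ring
    · rw [if_neg h1, if_neg h1]
      by_cases h2 : i = p.natDegree
      · rw [if_pos h2, if_pos h2]
      · rw [if_neg h2, if_neg h2, coeff_hscale b hp hd, if_neg h1, if_neg h2, mul_inv, Units.val_mul]; ring
  · simp [hscale, if_neg hd]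

omit [Fintype K] in
theorem hscale_one (p : K[X]) : hscale q (1 : Kˣ) p = p := by
  rw [hscale]; split_ifs <;> simp

/-- Rescale all polynomials of a tuple. -/
noncomputable def uAct (hK : Fintype.card K = q ^ 2) (c : Fin L → Kˣ) (T : UTuple K q L m) : UTuple K q L m :=
  ⟨fun j => hscale q (c j) (T.1 j), fun j => isSD_hscale hK _ (T.2.1 j), by
    simp only [natDegree_hscale _ (T.2.1 _).1]; exact T.2.2⟩

theorem uGcd_uAct (hK : Fintype.card K = q ^ 2) (c : Fin L → Kˣ) (T : UTuple K q L m) :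
    uGcd (uAct hK c T) = uGcd T := by
  rw [uGcd, uGcd, uSupport, uSupport]
  simp only [uAct, natDegree_hscale _ (T.2.1 _).1]

/-- The character of the rescaling. -/
noncomputable def uChar (T : UTuple K q L m) : (Fin L → Kˣ) →* Kˣ where
  toFun c := ∏ j, ((if 0 < (T.1 j).natDegree then c j else 1) ^ (q - 1)) ^ ((j : ℕ) + 1)
  map_one' := by simp
  map_mul' a b := by
    rw [← Finset.prod_mul_distrib]
    refine Finset.prod_congr rfl fun j _ => ?_
    rw [← mul_pow, ← mul_pow]
    split_ifs <;> simp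

theorem uDet_uAct (hK : Fintype.card K = q ^ 2) (σ : ℕ → K) (c : Fin L → Kˣ) (T : UTuple K q L m) :
    uDet σ (uAct hK c T) = (uChar T c : Kˣ) * uDet σ T := by
  rw [uDet, uDet, uChar, MonoidHom.coe_mk, OneHom.coe_mk, Units.coe_prod, ← Finset.prod_mul_distrib]
  refine Finset.prod_congr rfl fun j _ => ?_
  simp only [uAct, natDegree_hscale _ (T.2.1 _).1, coeff_zero_hscale _ (T.2.1 _).1]
  simp only [Units.val_pow_eq_pow_val]
  rw [← mul_pow]
  split_ifs <;> simp [mul_left_comm]

theorem card_pow_range (hK : Fintype.card K = q ^ 2) :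
    Nat.card (powMonoidHom (q - 1) : Kˣ →* Kˣ).range = q + 1 := by
  classical
  have h1 := Fintype.one_lt_card (α := K)
  have hq : 2 ≤ q := by
    by_contra h; interval_cases q <;> simp [hK] at h1
  obtain ⟨r, rfl⟩ : ∃ r, q = r + 2 := ⟨q - 2, by omega⟩
  rw [IsCyclic.card_powMonoidHom_range, Nat.card_units, Nat.card_eq_fintype_card, hK,
    show r + 2 - 1 = r + 1 by omega, show (r + 2) ^ 2 = (r + 1) * (r + 3) + 1 by ring, Nat.add_sub_cancel,
    Nat.gcd_eq_right (dvd_mul_right _ _), Nat.mul_div_cancel_left _ (by omega)]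

theorem card_ker_uChar (hK : Fintype.card K = q ^ 2) (T : UTuple K q L m) :
    Nat.card (uChar T).ker * (q + 1) ≤ (q ^ 2 - 1) ^ L * uGcd T := by
  classical
  let R := (powMonoidHom (q - 1) : Kˣ →* Kˣ).range
  let D : Subgroup R := ((uChar T).range).subgroupOf R
  have hcardR : Nat.card R = q + 1 := card_pow_range hK
  have hle : (powMonoidHom (uGcd T) : R →* R).range ≤ D := by
    rintro x ⟨c, rfl⟩
    rw [powMonoidHom_apply, uGcd, ← zpow_natCast, Nat.gcd_eq_gcd_ab, zpow_add, zpow_mul, zpow_mul,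
      zpow_natCast, zpow_natCast]
    refine Subgroup.mul_mem _ ?_ (Subgroup.zpow_mem _ ?_ _)
    · rw [← hcardR, pow_card_eq_one', one_zpow]
      exact Subgroup.one_mem _
    · have h := SLClassNumber.pow_gcd_mem D (uSupport T).val c fun a ha => by
        simp only [uSupport, Finset.mem_val, Finset.mem_image, Finset.mem_filter, Finset.mem_univ,
          true_and] at ha
        obtain ⟨j, hj, rfl⟩ := ha
        obtain ⟨l, hl⟩ := c.2
        refine Subgroup.mem_subgroupOf.mpr ⟨Function.update (1 : Fin L → Kˣ) j l, ?_⟩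
        show ∏ i, ((if 0 < (T.1 i).natDegree then Function.update (1 : Fin L → Kˣ) j l i else 1) ^ (q - 1)) ^
          ((i : ℕ) + 1) = _
        rw [Finset.prod_eq_single j]
        · rw [if_pos hj, Function.update_self, SubmonoidClass.coe_pow, ← hl]
          rfl
        · intro i _ hi; simp [hi]
        · simp
      simpa [Finset.gcd_def] using h
  have h1 := Subgroup.card_mul_index (uChar T).ker
  rw [Subgroup.index_ker] at h1
  have h2 : Nat.card (powMonoidHom (uGcd T) : R →* R).range * uGcd T = q + 1 := by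
    rw [IsCyclic.card_powMonoidHom_range, hcardR,
      Nat.gcd_eq_right (show uGcd T ∣ q + 1 from Nat.gcd_dvd_left _ _)]
    exact Nat.div_mul_cancel (Nat.gcd_dvd_left _ _)
  have h4 : Nat.card D ≤ Nat.card (uChar T).range :=
    Nat.card_le_card_of_injective (fun x => (⟨x.1.1, x.2⟩ : (uChar T).range))
      (fun a b h => Subtype.ext (Subtype.ext (congrArg Subtype.val h : _)))
  have h3 : Nat.card (Fin L → Kˣ) = (q ^ 2 - 1) ^ L := by
    rw [Nat.card_fun, Nat.card_units, Nat.card_eq_fintype_card, Nat.card_fin, hK]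
  calc Nat.card (uChar T).ker * (q + 1)
      = Nat.card (uChar T).ker * (Nat.card (powMonoidHom (uGcd T) : R →* R).range * uGcd T) := by rw [h2]
    _ ≤ Nat.card (uChar T).ker * (Nat.card (uChar T).range * uGcd T) :=
        Nat.mul_le_mul_left _ (Nat.mul_le_mul_right _ ((Subgroup.card_le_of_le hle).trans h4))
    _ = (q ^ 2 - 1) ^ L * uGcd T := by rw [← mul_assoc, h1, h3]

theorem card_fibre_uChar (hK : Fintype.card K = q ^ 2) (T : UTuple K q L m) (σ : ℕ → K) :
    Nat.card {c : Fin L → Kˣ // uDet σ (uAct hK c T) = 1} ≤ Nat.card (uChar T).ker := by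
  rcases isEmpty_or_nonempty {c : Fin L → Kˣ // uDet σ (uAct hK c T) = 1} with h | ⟨⟨c₀, hc₀⟩⟩
  · simp
  refine Nat.card_le_card_of_injective (fun c => ⟨c₀⁻¹ * c.1, ?_⟩)
    (fun a b h => Subtype.ext (mul_left_cancel (congrArg Subtype.val h)))
  have h0 := hc₀
  have h := c.2
  rw [uDet_uAct] at h0 h
  rw [MonoidHom.mem_ker, map_mul, map_inv, inv_mul_eq_one]
  have hne : uDet σ T ≠ 0 := fun h' => by rw [h', mul_zero] at h0; exact zero_ne_one h0
  exact Units.ext (mul_right_cancel₀ hne (h0.trans h.symm))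

open Classical in
/-- Equidistribution. -/
theorem uWeighted_count (hK : Fintype.card K = q ^ 2) [Fintype (UTuple K q L m)] (σ : ℕ → K) :
    (q + 1) * ∑ T ∈ Finset.univ.filter (fun T : UTuple K q L m => uDet σ T = 1), uGcd T ≤
      ∑ T : UTuple K q L m, uGcd T ^ 2 := by
  have hpos : 0 < (q ^ 2 - 1) ^ L := by
    refine pow_pos (Nat.sub_pos_of_lt ?_) _
    rw [← hK]; exact Fintype.one_lt_card
  refine Nat.le_of_mul_le_mul_left ?_ hpos
  let e : (Fin L → Kˣ) × UTuple K q L m ≃ (Fin L → Kˣ) × UTuple K q L m :=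
    { toFun := fun z => (z.1, uAct hK z.1 z.2)
      invFun := fun z => (z.1, uAct hK z.1⁻¹ z.2)
      left_inv := fun z => by
        refine Prod.ext rfl (Subtype.ext (funext fun j => ?_))
        show hscale q (z.1⁻¹ j) (hscale q (z.1 j) (z.2.1 j)) = _
        rw [hscale_hscale _ _ (z.2.2.1 j).1, Pi.inv_apply, inv_mul_cancel, hscale_one]
      right_inv := fun z => by
        refine Prod.ext rfl (Subtype.ext (funext fun j => ?_))
        show hscale q (z.1 j) (hscale q (z.1⁻¹ j) (z.2.1 j)) = _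
        rw [hscale_hscale _ _ (z.2.2.1 j).1, Pi.inv_apply, mul_inv_cancel, hscale_one] }
  have h1 : ∑ z : (Fin L → Kˣ) × UTuple K q L m, (if uDet σ (uAct hK z.1 z.2) = 1 then uGcd z.2 else 0) =
      (q ^ 2 - 1) ^ L * ∑ T ∈ Finset.univ.filter (fun T : UTuple K q L m => uDet σ T = 1), uGcd T := by
    refine (Fintype.sum_equiv e _ (fun z => if uDet σ z.2 = 1 then uGcd z.2 else 0) fun z => by
      show _ = if uDet σ (uAct hK z.1 z.2) = 1 then uGcd (uAct hK z.1 z.2) else 0
      rw [uGcd_uAct]).trans ?_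
    rw [Fintype.sum_prod_type]
    simp only [Finset.sum_const, Finset.card_univ, smul_eq_mul]
    rw [Finset.sum_filter, Fintype.card_fun, Fintype.card_units, Fintype.card_fin, hK]
  calc (q ^ 2 - 1) ^ L * ((q + 1) *
        ∑ T ∈ Finset.univ.filter (fun T : UTuple K q L m => uDet σ T = 1), uGcd T)
      = (q + 1) * ∑ z : (Fin L → Kˣ) × UTuple K q L m, (if uDet σ (uAct hK z.1 z.2) = 1 then uGcd z.2 else 0) := by
        rw [h1]; ring
    _ = ∑ T : UTuple K q L m, uGcd T *
          (Nat.card {c : Fin L → Kˣ // uDet σ (uAct hK c T) = 1} * (q + 1)) := by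
        rw [Fintype.sum_prod_type, Finset.sum_comm, Finset.mul_sum]
        refine Finset.sum_congr rfl fun T _ => ?_
        rw [← Finset.sum_filter]
        simp only [Finset.sum_const, smul_eq_mul]
        rw [Nat.card_eq_fintype_card, Fintype.card_subtype]
        ring
    _ ≤ ∑ T : UTuple K q L m, uGcd T * ((q ^ 2 - 1) ^ L * uGcd T) :=
        Finset.sum_le_sum fun T _ => Nat.mul_le_mul_left _
          ((Nat.mul_le_mul_right _ (card_fibre_uChar hK T σ)).trans (card_ker_uChar hK T))
    _ = (q ^ 2 - 1) ^ L * ∑ T : UTuple K q L m, uGcd T ^ 2 := by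
        rw [Finset.mul_sum]; exact Finset.sum_congr rfl fun T _ => by ring

theorem uGcd_dvd_weight (T : UTuple K q L m) : uGcd T ∣ m := by
  refine (Nat.gcd_dvd_right _ _).trans ?_
  conv_rhs => rw [← T.2.2]
  refine Finset.dvd_sum fun j _ => ?_
  rcases Nat.eq_zero_or_pos (T.1 j).natDegree with h | h
  · rw [h, mul_zero]; exact dvd_zero _
  · exact (Finset.gcd_dvd (f := id) (Finset.mem_image.mpr ⟨j, by simp [h], rfl⟩)).mul_right _

theorem card_dvd_uSupport_le (hK : Fintype.card K = q ^ 2) {s : K →+* K} (hs : ∀ x, s x = x ^ q)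
    (hne : ∃ a, s a ≠ a) (L m d : ℕ) (hd : 0 < d) :
    Nat.card {T : UTuple K q L m // ∀ j : Fin L, 0 < (T.1 j).natDegree → d ∣ (j : ℕ) + 1} ≤
      uCount q L (m / d) := by
  classical
  have hfin := (uTuple_card_le hK hs hne L (m / d)).1
  refine le_trans ?_ (uTuple_card_le hK hs hne L (m / d)).2
  let g : {T : UTuple K q L m // ∀ j : Fin L, 0 < (T.1 j).natDegree → d ∣ (j : ℕ) + 1} → Fin L → K[X] :=
    fun T k => if h : d * ((k : ℕ) + 1) - 1 < L then T.1.1 ⟨d * ((k : ℕ) + 1) - 1, h⟩ else 1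
  have hw : ∀ T, d * ∑ k : Fin L, ((k : ℕ) + 1) * (g T k).natDegree = m := fun T => by
    conv_rhs => rw [← T.1.2.2]
    rw [Finset.mul_sum]
    refine Finset.sum_bij_ne_zero
      (fun k _ hk => ⟨d * ((k : ℕ) + 1) - 1, by
        by_contra hc
        simp [g, dif_neg hc] at hk⟩)
      (fun k _ _ => Finset.mem_univ _) (fun a _ _ b _ _ hab => by
        have h1 := congrArg Fin.val hab
        simp only at h1
        have ha : 1 ≤ d * ((a : ℕ) + 1) := Nat.mul_pos hd (Nat.succ_pos _)
        have hb : 1 ≤ d * ((b : ℕ) + 1) := Nat.mul_pos hd (Nat.succ_pos _)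
        have h2 : d * ((a : ℕ) + 1) = d * ((b : ℕ) + 1) := by omega
        exact Fin.ext (by have := Nat.eq_of_mul_eq_mul_left hd h2; omega))
      (fun j _ hj => ?_) (fun k _ hk => ?_)
    · have hdeg : 0 < (T.1.1 j).natDegree := Nat.pos_of_ne_zero fun h => hj (by rw [h, mul_zero])
      obtain ⟨c, hc⟩ := T.2 j hdeg
      have hc0 : 0 < c := Nat.pos_of_ne_zero fun h => by simp [h] at hc
      have hcL : c ≤ L := le_trans (Nat.le_mul_of_pos_left c hd) (by have := j.2; omega)
      have e : (⟨d * (c - 1 + 1) - 1, by rw [show c - 1 + 1 = c by omega, ← hc]; simp⟩ : Fin L) = j :=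
        Fin.ext (by simp only [show c - 1 + 1 = c by omega, ← hc]; simp)
      refine ⟨⟨c - 1, by omega⟩, Finset.mem_univ _, ?_, e⟩
      have h : d * (c - 1 + 1) - 1 < L := by rw [show c - 1 + 1 = c by omega, ← hc]; simp
      simp only [g, dif_pos h, e]
      exact mul_ne_zero hd.ne' (mul_ne_zero (Nat.succ_ne_zero _) hdeg.ne')
    · by_cases h : d * ((k : ℕ) + 1) - 1 < L
      · simp only [g, dif_pos h]
        rw [← mul_assoc, Nat.sub_add_cancel (Nat.mul_pos hd (Nat.succ_pos _))]
      · simp [g, dif_neg h] at hk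
  refine Nat.card_le_card_of_injective (fun T => (⟨g T, fun k => ?_, ?_⟩ : UTuple K q L (m / d))) ?_
  · simp only [g]
    split_ifs with h
    · exact T.1.2.1 _
    · exact isSD_one q
  · rw [← hw T, Nat.mul_div_cancel_left _ hd]
  · intro A B hAB
    refine Subtype.ext (Subtype.ext (funext fun j => ?_))
    by_cases hjd : d ∣ (j : ℕ) + 1
    · obtain ⟨c, hc⟩ := hjd
      have hc0 : 0 < c := Nat.pos_of_ne_zero fun h => by simp [h] at hc
      have hcL : c ≤ L := le_trans (Nat.le_mul_of_pos_left c hd) (by have := j.2; omega)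
      have h1 : g A ⟨c - 1, by omega⟩ = g B ⟨c - 1, by omega⟩ :=
        congrFun (congrArg Subtype.val hAB) _
      have e : d * (c - 1 + 1) - 1 = (j : ℕ) := by rw [show c - 1 + 1 = c by omega, ← hc]; simp
      simp only [g, e, j.2, dif_pos, Fin.eta] at h1
      exact h1
    · have hA : (A.1.1 j).natDegree = 0 := Nat.eq_zero_of_not_pos fun h => hjd (A.2 j h)
      have hB : (B.1.1 j).natDegree = 0 := Nat.eq_zero_of_not_pos fun h => hjd (B.2 j h)
      rw [eq_one_of_monic_natDegree_zero (A.1.2.1 j).1 hA, eq_one_of_monic_natDegree_zero (B.1.2.1 j).1 hB]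

/-- The bound on the sum of squares. -/
def uBound (q L m : ℕ) : ℕ := uCount q L m + ∑ d ∈ dset (q + 2) m, wt d * uCount q L (m / d)

open Classical in
theorem uSum_sq_le (hK : Fintype.card K = q ^ 2) {s : K →+* K} (hs : ∀ x, s x = x ^ q) (hne : ∃ a, s a ≠ a)
    [Fintype (UTuple K q L m)] (hm : 0 < m) : ∑ T : UTuple K q L m, uGcd T ^ 2 ≤ uBound q L m := by
  calc ∑ T : UTuple K q L m, uGcd T ^ 2
      ≤ ∑ T : UTuple K q L m, (1 + ∑ d ∈ (dset (q + 2) m).filter (fun d => d ∣ uGcd T), wt d) :=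
        Finset.sum_le_sum fun T _ => sq_le_wt hm (uGcd_dvd_weight T) (Nat.gcd_dvd_left _ _)
    _ = Nat.card (UTuple K q L m) + ∑ d ∈ dset (q + 2) m,
          wt d * (Finset.univ.filter fun T : UTuple K q L m => d ∣ uGcd T).card := by
        rw [Finset.sum_add_distrib, Nat.card_eq_fintype_card]
        congr 1
        · simp
        · simp only [Finset.sum_filter]
          rw [Finset.sum_comm]
          refine Finset.sum_congr rfl fun d _ => ?_
          rw [← Finset.sum_filter, Finset.sum_const, smul_eq_mul, mul_comm]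
    _ ≤ uBound q L m := by
        refine Nat.add_le_add (uTuple_card_le hK hs hne L m).2
          (Finset.sum_le_sum fun d hd => Nat.mul_le_mul_left _ ?_)
        have hd2 : 2 ≤ d := (Finset.mem_Icc.mp (Finset.mem_filter.mp hd).1).1
        refine le_trans ?_ (card_dvd_uSupport_le hK hs hne L m d (by omega))
        rw [Nat.card_eq_fintype_card, Fintype.card_subtype]
        refine Finset.card_le_card fun T hT => ?_
        simp only [Finset.mem_filter, Finset.mem_univ, true_and] at hT ⊢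
        intro j hj
        exact hT.trans ((Nat.gcd_dvd_right _ _).trans
          (Finset.gcd_dvd (f := id) (Finset.mem_image.mpr ⟨j, by simp [hj], rfl⟩)))

end CfsgLib.SUClassNumber
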