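import Cfsg.Agent.Lib.SUClassNumber.Elements
import Cfsg.Agent.Lib.SUClassNumber.Tuples
import Cfsg.Agent.Lib.SLClassNumber.Classes
import Cfsg.Agent.Lib.SemisimpleCount.Unitary

/-!
The number of classes of the special unitary group.
-/

set_option autoImplicit false
set_option linter.unusedSectionVars false

namespace CfsgLib.SUClassNumber

open Polynomial Matrix CfsgLib.GLClassNumber CfsgLib.SLClassNumber
open CfsgLib.SemisimpleUnitary (st)

universe u

variable {K : Type u} [Field K] [Fintype K] {n q : ℕ}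

/-- The special unitary group inside the general linear group. -/
noncomputable def suToGL (n : ℕ) (K : Type u) [Field K] (q : ℕ) : ↥(Cfsg.SU n K q) →* GL (Fin n) K :=
  Matrix.SpecialLinearGroup.toGL.comp (Cfsg.SU n K q).subtype

omit [Fintype K] in
theorem suToGL_injective : Function.Injective (suToGL n K q) :=
  Matrix.SpecialLinearGroup.toGL_injective.comp Subtype.val_injective

omit [Fintype K] in
theorem suToGL_mem (x : ↥(Cfsg.SU n K q)) : suToGL n K q x ∈ Cfsg.GU n K q := fun u v => x.2 u v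

theorem frob_facts (hK : Fintype.card K = q ^ 2) :
    1 < q ∧ ∃ s : K →+* K, (∀ x, s x = x ^ q) ∧ (∀ x, s (s x) = x) ∧ ∃ a, s a ≠ a := by
  obtain ⟨hq, s, hs⟩ := UnitaryBasic.frob_exists hK
  refine ⟨hq, s, hs, fun x => by rw [hs, hs, ← pow_mul, ← sq, ← hK, FiniteField.pow_card], ?_⟩
  obtain ⟨ζ, hζ⟩ := UnitaryBasic.exists_zeta hK
  refine ⟨ζ, fun he => ?_⟩
  rw [hs] at he
  have h1 : ζ ^ (q - 1) = 1 := Units.ext (by
    have h2 : (ζ : K) ^ (q - 1) * ζ = 1 * ζ := by rw [← pow_succ, Nat.sub_add_cancel (by omega), he, one_mul]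
    simpa using mul_right_cancel₀ ζ.ne_zero h2)
  have h3 := Nat.le_of_dvd (by omega) (hζ ▸ orderOf_dvd_of_pow_eq_one h1)
  omega

/-- The gcd of `q + 1` and the exponents. -/
noncomputable def eGcd (q : ℕ) (m : Multiset (K[X] × ℕ)) : ℕ := Nat.gcd (q + 1) (m.map Prod.snd).gcd

theorem det_mem_range (hK : Fintype.card K = q ^ 2) {g : GL (Fin n) K} (hg : g ∈ Cfsg.GU n K q) :
    Matrix.GeneralLinearGroup.det g ∈ (powMonoidHom (q - 1) : Kˣ →* Kˣ).range := by
  obtain ⟨hq, s, hs, hs2, hne⟩ := frob_facts hK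
  have hle : (powMonoidHom (q - 1) : Kˣ →* Kˣ).range ≤ (powMonoidHom (q + 1) : Kˣ →* Kˣ).ker := by
    rintro x ⟨l, rfl⟩
    classical
    rw [MonoidHom.mem_ker, powMonoidHom_apply, powMonoidHom_apply, ← pow_mul,
      show (q - 1) * (q + 1) = Fintype.card Kˣ by
        obtain ⟨r, rfl⟩ : ∃ r, q = r + 1 := ⟨q - 1, by omega⟩
        rw [Fintype.card_units, hK, Nat.add_sub_cancel,
          show (r + 1) ^ 2 = r * (r + 1 + 1) + 1 by ring, Nat.add_sub_cancel],
      pow_card_eq_one]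
  have hcard : Nat.card (powMonoidHom (q + 1) : Kˣ →* Kˣ).ker ≤ q + 1 := by
    rw [IsCyclic.card_powMonoidHom_ker]
    exact Nat.le_of_dvd (by omega) (Nat.gcd_dvd_right _ _)
  rw [Subgroup.eq_of_le_of_card_ge hle (by rw [card_pow_range hK]; exact hcard)]
  exact UnitaryBasic.det_pow hK hg

/-- A class of `GU` contains at most `gcd (q + 1, exponents)` classes of `SU`. -/
theorem card_fibre_le (hK : Fintype.card K = q ^ 2) (x₀ : ↥(Cfsg.SU n K q)) :
    Nat.card {C : ConjClasses ↥(Cfsg.SU n K q) //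
      ∃ x, ConjClasses.mk x = C ∧ eld (suToGL n K q x) = eld (suToGL n K q x₀)} ≤
      eGcd q (eld (suToGL n K q x₀)) := by
  classical
  obtain ⟨hq, s, hs, hs2, hne⟩ := frob_facts hK
  set y := suToGL n K q x₀ with hy
  have hyu : st s y.1 * y.1 = 1 := (mem_GU_iff hs hs2 y).mp (suToGL_mem x₀)
  let R := (powMonoidHom (q - 1) : Kˣ →* Kˣ).range
  have hcardR : Nat.card R = q + 1 := card_pow_range hK
  let Cy : Subgroup (GL (Fin n) K) := Cfsg.GU n K q ⊓ Subgroup.centralizer ({y} : Set (GL (Fin n) K))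
  let D : Subgroup R := (Cy.map Matrix.GeneralLinearGroup.det).subgroupOf R
  let g := eGcd q (eld y)
  have hpow : ∀ z ∈ eld y, ∀ c : R, c ^ z.2 ∈ D := fun z hz c => by
    obtain ⟨l, hl⟩ := c.2
    obtain ⟨u, hu1, hu2, hu3⟩ := exists_cent_det hs2 hne y hyu hz l⁻¹
    refine Subgroup.mem_subgroupOf.mpr (Subgroup.mem_map.mpr ⟨u, ⟨(mem_GU_iff hs hs2 u).mpr hu1,
      Subgroup.mem_centralizer_singleton_iff.mpr hu2.symm⟩, Units.ext ?_⟩)
    show u.1.det = _
    rw [hu3, hs, SubmonoidClass.coe_pow, ← hl, powMonoidHom_apply]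
    have he : ∀ w : Kˣ, w⁻¹ * (w⁻¹ ^ q)⁻¹ = w ^ (q - 1) := fun w => by
      rw [inv_pow, inv_inv, inv_mul_eq_iff_eq_mul, ← pow_succ', Nat.sub_add_cancel hq.le]
    rw [← he (l : Kˣ)]
    simp only [Units.val_pow_eq_pow_val, Units.val_mul, Units.val_inv_eq_inv_val, mul_pow, inv_pow, inv_inv]
    rw [← pow_mul, ← pow_mul, mul_comm q]
  have hle : (powMonoidHom g : R →* R).range ≤ D := by
    rintro x ⟨c, rfl⟩
    rw [powMonoidHom_apply, show g = Nat.gcd (q + 1) ((eld y).map Prod.snd).gcd from rfl, ← zpow_natCast,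
      Nat.gcd_eq_gcd_ab, _root_.zpow_add, _root_.zpow_mul, _root_.zpow_mul, zpow_natCast, zpow_natCast]
    refine Subgroup.mul_mem _ ?_ (Subgroup.zpow_mem _ (SLClassNumber.pow_gcd_mem _ _ c fun a ha => ?_) _)
    · rw [← hcardR, pow_card_eq_one', _root_.one_zpow]
      exact Subgroup.one_mem _
    · obtain ⟨z, hz, rfl⟩ := Multiset.mem_map.mp ha
      exact hpow z hz c
  have hex : ∀ C : {C : ConjClasses ↥(Cfsg.SU n K q) //
      ∃ x, ConjClasses.mk x = C ∧ eld (suToGL n K q x) = eld y},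
      ∃ (x : ↥(Cfsg.SU n K q)) (t : GL (Fin n) K), ConjClasses.mk x = C.1 ∧ t ∈ Cfsg.GU n K q ∧
        t * y * t⁻¹ = suToGL n K q x := fun C => by
    obtain ⟨x, hx, he⟩ := C.2
    obtain ⟨t, ht⟩ := _root_.isConj_iff.mp (UnitaryConj.isConj_GU hK ⟨y, suToGL_mem x₀⟩
      ⟨suToGL n K q x, suToGL_mem x⟩ (isConj_iff_eld.mpr he.symm))
    exact ⟨x, t.1, hx, t.2, congrArg Subtype.val ht⟩
  choose x t hx htm ht using hex
  have hinj : Function.Injective fun C =>
      (QuotientGroup.mk (⟨Matrix.GeneralLinearGroup.det (t C), det_mem_range hK (htm C)⟩ : R) :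
        R ⧸ (powMonoidHom g : R →* R).range) := by
    intro C C' hCC
    have h1 := Subgroup.mem_subgroupOf.mp (hle (QuotientGroup.eq.mp hCC))
    obtain ⟨k, hk, hkd⟩ := Subgroup.mem_map.mp h1
    set w := t C' * k⁻¹ * (t C)⁻¹ with hw
    have hwd : Matrix.GeneralLinearGroup.det w = 1 := by
      rw [hw, map_mul, map_mul, map_inv, map_inv, hkd]
      simp only [Subgroup.coe_mul, Subgroup.coe_inv]
      group
    have hwm : w ∈ Cfsg.GU n K q := by
      rw [hw]
      exact mul_mem (mul_mem (htm C') (inv_mem hk.1)) (inv_mem (htm C))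
    let ws : ↥(Cfsg.SU n K q) := ⟨⟨w.1, by simpa using congrArg Units.val hwd⟩, fun u v => hwm u v⟩
    have hws : suToGL n K q ws = w := Units.ext rfl
    have hcomm : k⁻¹ * y * k = y := by
      have h2 := Subgroup.mem_centralizer_singleton_iff.mp hk.2
      calc k⁻¹ * y * k = k⁻¹ * (y * k) := mul_assoc _ _ _
        _ = k⁻¹ * (k * y) := by rw [h2]
        _ = y := inv_mul_cancel_left k y
    refine Subtype.ext ?_
    rw [← hx C, ← hx C', ConjClasses.mk_eq_mk_iff_isConj]
    refine _root_.isConj_iff.mpr ⟨ws, suToGL_injective ?_⟩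
    rw [map_mul, map_mul, map_inv, hws, ← ht C, ← ht C', hw]
    calc t C' * k⁻¹ * (t C)⁻¹ * (t C * y * (t C)⁻¹) * (t C' * k⁻¹ * (t C)⁻¹)⁻¹ =
        t C' * (k⁻¹ * y * k) * (t C')⁻¹ := by group
      _ = t C' * y * (t C')⁻¹ := by rw [hcomm]
  refine (Nat.card_le_card_of_injective _ hinj).trans (le_of_eq ?_)
  show (powMonoidHom g : R →* R).range.index = _
  rw [IsCyclic.index_powMonoidHom_range, hcardR]
  exact Nat.gcd_eq_right (Nat.gcd_dvd_left _ _)

/-- The class count is bounded by the weighted count of tuples. -/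
theorem card_su_classes_le (hn : 0 < n) (hK : Fintype.card K = q ^ 2) :
    (q + 1) * Nat.card (ConjClasses ↥(Cfsg.SU n K q)) ≤ uBound q n n := by
  classical
  obtain ⟨hq, s, hs, hs2, hne⟩ := frob_facts hK
  haveI := (uTuple_card_le hK hs hne n n).1
  letI : Fintype (UTuple K q n n) := Fintype.ofFinite _
  let σ : ℕ → K := fun k => (-1) ^ k
  choose x hx using fun C : ConjClasses ↥(Cfsg.SU n K q) => ConjClasses.exists_rep C
  let g := fun C => suToGL n K q (x C)
  have hprop : ∀ C j, (tupleOf (eld (g C)) j).Monic ∧ (tupleOf (eld (g C)) j).coeff 0 ≠ 0 := fun C j => by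
    rw [tupleOf]
    refine ⟨monic_multiset_prod_of_monic _ _ fun z hz => (eld_props (Multiset.mem_filter.mp hz).1).1, ?_⟩
    rw [coeff_zero_multiset_prod]
    refine Multiset.prod_ne_zero fun h => ?_
    simp only [Multiset.map_map, Multiset.mem_map, Function.comp_apply] at h
    obtain ⟨z, hz, hz0⟩ := h
    exact (eld_props (Multiset.mem_filter.mp hz).1).2.2.1 hz0
  have hsd : ∀ C j, IsSD q (tupleOf (eld (g C)) j) := fun C j => by
    refine isSD_of_dual hs (hprop C j).1 (hprop C j).2 ?_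
    conv_rhs => rw [← eld_dual hs2 (g C) ((mem_GU_iff hs hs2 _).mp (suToGL_mem (x C)))]
    simp only [tupleOf, dualP_multiset_prod, Multiset.filter_map, Multiset.map_map]
    rfl
  let Φ : ConjClasses ↥(Cfsg.SU n K q) → UTuple K q n n := fun C =>
    ⟨fun j => tupleOf (eld (g C)) ((j : ℕ) + 1), fun j => hsd C _, tuple_sum_eq (g C)⟩
  have hinj : ∀ C D, Φ C = Φ D → eld (g C) = eld (g D) := fun C D h => by
    have hs' : ∀ E, ∀ w ∈ eld (g E), w.1.Monic ∧ Irreducible w.1 := fun E w hw =>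
      ⟨(eld_props hw).1, (eld_props hw).2.1⟩
    refine Multiset.ext.mpr fun w => ?_
    obtain ⟨p, k⟩ := w
    by_cases hk : 1 ≤ k ∧ k ≤ n
    · rw [count_eq_of_tupleOf (hs' C), count_eq_of_tupleOf (hs' D)]
      have h1 := congrFun (congrArg Subtype.val h) ⟨k - 1, by omega⟩
      simp only [Φ, show k - 1 + 1 = k by omega] at h1
      rw [h1]
    · rw [Multiset.count_eq_zero.mpr fun hw => hk (eld_props hw).2.2.2,
        Multiset.count_eq_zero.mpr fun hw => hk (eld_props hw).2.2.2]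
  have hdet : ∀ C, uDet σ (Φ C) = 1 := fun C => by
    have h1 : (g C).val.det = 1 := (x C).1.2
    rw [det_eq_eldDet, eldDet_tupleOf (n := n) _ fun w hw =>
      ⟨(eld_props hw).1.ne_zero, (eld_props hw).2.2.2⟩] at h1
    rw [uDet, ← h1]
    rfl
  have hgcd : ∀ C, uGcd (Φ C) = eGcd q (eld (g C)) := fun C => by
    rw [uGcd, eGcd]
    congr 1
    have hs' : ∀ w ∈ eld (g C), w.1.Monic ∧ Irreducible w.1 := fun w hw =>
      ⟨(eld_props hw).1, (eld_props hw).2.1⟩
    have hiff : ∀ j : Fin n, (0 < ((Φ C).1 j).natDegree ↔ (j : ℕ) + 1 ∈ (eld (g C)).map Prod.snd) := fun j =>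
      natDegree_tupleOf_pos_iff _ hs' _
    apply Nat.dvd_antisymm
    · refine Multiset.dvd_gcd.mpr fun k hk => ?_
      obtain ⟨w, hw, rfl⟩ := Multiset.mem_map.mp hk
      obtain ⟨-, -, -, h1, h2⟩ := eld_props hw
      refine Finset.gcd_dvd (f := id) (Finset.mem_image.mpr ⟨⟨w.2 - 1, by omega⟩, ?_, by simp; omega⟩)
      rw [Finset.mem_filter]
      refine ⟨Finset.mem_univ _, (hiff _).mpr ?_⟩
      rw [show w.2 - 1 + 1 = w.2 by omega]
      exact hk
    · refine Finset.dvd_gcd fun k hk => ?_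
      obtain ⟨j, hj, rfl⟩ := Finset.mem_image.mp hk
      exact Multiset.gcd_dvd ((hiff j).mp (Finset.mem_filter.mp hj).2)
  letI : Fintype (ConjClasses ↥(Cfsg.SU n K q)) := Fintype.ofFinite _
  have hfib : ∀ T : UTuple K q n n, (Finset.univ.filter fun C => Φ C = T).card ≤
      if uDet σ T = 1 then uGcd T else 0 := fun T => by
    rcases (Finset.univ.filter fun C => Φ C = T).eq_empty_or_nonempty with h | ⟨C₀, hC₀⟩
    · simp [h]
    rw [Finset.mem_filter] at hC₀
    rw [if_pos (by rw [← hC₀.2]; exact hdet C₀), ← hC₀.2, hgcd]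
    refine le_trans ?_ (card_fibre_le hK (x C₀))
    rw [← Fintype.card_subtype, ← Nat.card_eq_fintype_card]
    exact Nat.card_le_card_of_injective (fun C => ⟨C.1, x C.1, hx C.1, hinj _ _ C.2⟩)
      (fun a b h => Subtype.ext (congrArg Subtype.val h :))
  calc (q + 1) * Nat.card (ConjClasses ↥(Cfsg.SU n K q))
      ≤ (q + 1) * ∑ T : UTuple K q n n, (if uDet σ T = 1 then uGcd T else 0) := by
        refine Nat.mul_le_mul_left _ ?_
        rw [Nat.card_eq_fintype_card, ← Finset.card_univ,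
          Finset.card_eq_sum_card_fiberwise (f := Φ) (t := Finset.univ) fun _ _ => Finset.mem_univ _]
        exact Finset.sum_le_sum fun T _ => hfib T
    _ ≤ ∑ T : UTuple K q n n, uGcd T ^ 2 := by
        rw [← Finset.sum_filter]
        convert uWeighted_count hK σ using 3
    _ ≤ uBound q n n := by
        convert uSum_sq_le hK hs hne hn using 1

theorem le_card_su_classes (hn : 0 < n) (hK : Fintype.card K = q ^ 2) :
    q ^ (n - 1) ≤ Nat.card (ConjClasses ↥(Cfsg.SU n K q)) := by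
  obtain ⟨p, hp⟩ := CharP.exists K
  obtain ⟨k, hp', -⟩ := FiniteField.card K p
  haveI := Fact.mk hp'
  obtain ⟨m, rfl⟩ : ∃ m, n = m + 1 := ⟨n - 1, by omega⟩
  rw [Nat.add_sub_cancel, ← SemisimpleCount.card_su hK p m]
  exact Nat.card_le_card_of_injective Subtype.val Subtype.val_injective

end CfsgLib.SUClassNumber
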