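import Cfsg.Agent.Lib.SLClassNumber.Norms

/-!
The semilinear dual of a polynomial, the induced ring isomorphisms of cyclic modules, and a nondegenerate
functional on them.
-/

set_option autoImplicit false

namespace CfsgLib.SUClassNumber

open Polynomial CfsgLib.GLClassNumber

universe u

variable {K : Type u} [Field K]

/-- The monic semilinear reverse. -/
noncomputable def dualP (s : K →+* K) (p : K[X]) : K[X] :=
  C ((s (p.coeff 0))⁻¹) * (p.map s).reverse

variable {s : K →+* K}

theorem coeff_reverse_map {p : K[X]} {i : ℕ} (hi : i ≤ p.natDegree) :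
    ((p.map s).reverse).coeff i = s (p.coeff (p.natDegree - i)) := by
  rw [coeff_reverse, natDegree_map_eq_of_injective s.injective, revAt_le hi, coeff_map]

theorem coeff_dualP {p : K[X]} {i : ℕ} (hi : i ≤ p.natDegree) :
    (dualP s p).coeff i = (s (p.coeff 0))⁻¹ * s (p.coeff (p.natDegree - i)) := by
  rw [dualP, coeff_C_mul, coeff_reverse_map hi]

theorem natDegree_dualP {p : K[X]} (hp0 : p.coeff 0 ≠ 0) : (dualP s p).natDegree = p.natDegree := by
  have hs0 : s (p.coeff 0) ≠ 0 := (map_ne_zero s).2 hp0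
  refine le_antisymm ((natDegree_C_mul_le _ _).trans ((reverse_natDegree_le _).trans natDegree_map_le)) ?_
  refine le_natDegree_of_ne_zero ?_
  rw [coeff_dualP le_rfl, Nat.sub_self]
  exact mul_ne_zero (inv_ne_zero hs0) hs0

theorem monic_dualP {p : K[X]} (hp0 : p.coeff 0 ≠ 0) : (dualP s p).Monic := by
  rw [Monic, leadingCoeff, natDegree_dualP hp0, coeff_dualP le_rfl, Nat.sub_self,
    inv_mul_cancel₀ ((map_ne_zero s).2 hp0)]

theorem coeff_zero_dualP {p : K[X]} (hp : p.Monic) : (dualP s p).coeff 0 = (s (p.coeff 0))⁻¹ := by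
  rw [coeff_dualP (Nat.zero_le _), Nat.sub_zero, hp.coeff_natDegree, map_one, mul_one]

theorem dualP_one : dualP s (1 : K[X]) = 1 := by
  rw [dualP, Polynomial.map_one, coeff_one_zero, map_one, inv_one, map_one, one_mul, ← C_1, reverse_C]

theorem dualP_mul (p r : K[X]) : dualP s (p * r) = dualP s p * dualP s r := by
  simp only [dualP, mul_coeff_zero, map_mul, mul_inv, Polynomial.map_mul, reverse_mul_of_domain]
  ring

theorem dualP_pow (p : K[X]) (e : ℕ) : dualP s (p ^ e) = dualP s p ^ e := by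
  induction e with
  | zero => simp [dualP_one]
  | succ e ih => rw [pow_succ, pow_succ, dualP_mul, ih]

theorem dualP_multiset_prod (m : Multiset K[X]) : dualP s m.prod = (m.map (dualP s)).prod := by
  induction m using Multiset.induction with
  | empty => simp [dualP_one]
  | cons a m ih => rw [Multiset.prod_cons, Multiset.map_cons, Multiset.prod_cons, dualP_mul, ih]

theorem dualP_dualP (hs2 : ∀ x, s (s x) = x) {p : K[X]} (hp : p.Monic) (hp0 : p.coeff 0 ≠ 0) :
    dualP s (dualP s p) = p := by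
  have hd := natDegree_dualP (s := s) hp0
  have hz : (dualP s p).coeff 0 ≠ 0 := by
    rw [coeff_zero_dualP hp]; exact inv_ne_zero ((map_ne_zero s).2 hp0)
  refine Polynomial.ext fun i => ?_
  rcases le_or_gt i p.natDegree with hi | hi
  · rw [coeff_dualP (hd.symm ▸ hi), coeff_zero_dualP hp, hd, coeff_dualP (Nat.sub_le _ _),
      show p.natDegree - (p.natDegree - i) = i by omega, map_inv₀, hs2, inv_inv, map_mul, map_inv₀, hs2,
      hs2, ← mul_assoc, mul_inv_cancel₀ hp0, one_mul]
  · rw [coeff_eq_zero_of_natDegree_lt (by rw [natDegree_dualP hz, hd]; exact hi),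
      coeff_eq_zero_of_natDegree_lt hi]

theorem dualP_coeff_of_self {p : K[X]} (h : dualP s p = p) {i : ℕ} (hi : i ≤ p.natDegree) :
    p.coeff i = (s (p.coeff 0))⁻¹ * s (p.coeff (p.natDegree - i)) := by
  conv_lhs => rw [← h]
  exact coeff_dualP hi

/-- The class of the variable. -/
noncomputable def rootC (f : K[X]) : Qmod f := Ideal.Quotient.mk _ X

variable [Fintype K]

theorem finite_qmod' {f : K[X]} (hf : f ≠ 0) : Finite (Qmod f) := by
  haveI := finite_qmod (F := K) hf
  exact Module.finite_of_finite K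

theorem isUnit_rootC {f : K[X]} (hf0 : f.coeff 0 ≠ 0) : IsUnit (rootC f) := by
  obtain ⟨a, b, hab⟩ : IsCoprime (X : K[X]) f :=
    (irreducible_X.coprime_iff_not_dvd).mpr (by rwa [X_dvd_iff])
  refine IsUnit.of_mul_eq_one_right (Ideal.Quotient.mk _ a) ?_
  rw [rootC, ← map_mul, ← map_one (Ideal.Quotient.mk _), Ideal.Quotient.eq, Ideal.mem_span_singleton]
  exact ⟨-b, by linear_combination hab⟩

/-- The semilinear isomorphism inverting the variable. -/
theorem exists_iota (s : K →+* K) (hs2 : ∀ x, s (s x) = x) {f : K[X]} (hf : f.Monic) (hf0 : f.coeff 0 ≠ 0) :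
    ∃ ι : Qmod f ≃+* Qmod (dualP s f),
      (∀ c : K, ι (algebraMap K _ c) = algebraMap K _ (s c)) ∧ ι (rootC f) * rootC (dualP s f) = 1 := by
  set g := dualP s f with hg
  have hg0 : g.coeff 0 ≠ 0 := by
    rw [hg, coeff_zero_dualP hf]; exact inv_ne_zero ((map_ne_zero s).2 hf0)
  obtain ⟨x, hx⟩ := isUnit_rootC hg0
  let φ : K →+* Qmod g := (algebraMap K (Qmod g)).comp s
  letI : Invertible ((x⁻¹ : (Qmod g)ˣ).val) := ⟨(x : Qmod g), x.mul_inv, x.inv_mul⟩
  have hev : ∀ r : K[X], r.eval₂ (algebraMap K (Qmod g)) (rootC g) = Ideal.Quotient.mk _ r := fun r => by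
    show aeval (Ideal.Quotient.mk (Ideal.span {g}) X) r = _
    have : (aeval (Ideal.Quotient.mk (Ideal.span {g}) X) : K[X] →ₐ[K] Qmod g) = Ideal.Quotient.mkₐ K _ :=
      Polynomial.algHom_ext (by rw [aeval_X]; rfl)
    rw [this]; rfl
  have hroot : f.eval₂ φ (x⁻¹ : (Qmod g)ˣ).val = 0 := by
    rw [← eval₂_map, ← eval₂_reverse_eq_zero_iff]
    show (f.map s).reverse.eval₂ (algebraMap K (Qmod g)) (x : Qmod g) = 0
    rw [hx, hev, Ideal.Quotient.eq_zero_iff_mem, Ideal.mem_span_singleton, hg, dualP]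
    exact ((isUnit_iff_ne_zero.mpr (inv_ne_zero ((map_ne_zero s).2 hf0))).map C).mul_left_dvd.mpr dvd_rfl
  let ψ : Qmod f →+* Qmod g := AdjoinRoot.lift φ (x⁻¹ : (Qmod g)ˣ).val hroot
  have hψc : ∀ c : K, ψ (algebraMap K _ c) = algebraMap K _ (s c) := fun c => AdjoinRoot.lift_of hroot
  have hψX : ψ (rootC f) = (x⁻¹ : (Qmod g)ˣ).val := AdjoinRoot.lift_root hroot
  haveI := finite_qmod' hf.ne_zero
  haveI := finite_qmod' (monic_dualP (s := s) hf0).ne_zero
  have hsurj : Function.Surjective ψ := by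
    have hX : rootC g ∈ ψ.range := by
      obtain ⟨k, hk, hk1⟩ : ∃ k, 0 < k ∧ x ^ k = 1 := ⟨orderOf x, orderOf_pos x, pow_orderOf_eq_one x⟩
      refine ⟨rootC f ^ (k - 1), ?_⟩
      rw [map_pow, hψX, ← hx, ← Units.val_pow_eq_pow_val]
      congr 1
      rw [inv_pow, inv_eq_iff_mul_eq_one, ← pow_succ, Nat.sub_add_cancel hk, hk1]
    intro z
    obtain ⟨r, rfl⟩ := Ideal.Quotient.mk_surjective z
    show Ideal.Quotient.mk _ r ∈ ψ.range
    rw [← hev]
    induction r using Polynomial.induction_on' with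
    | add a b ha hb => rw [eval₂_add]; exact add_mem ha hb
    | monomial i c =>
      rw [eval₂_monomial]
      exact mul_mem ⟨algebraMap K _ (s c), by rw [hψc, hs2]⟩ (pow_mem hX i)
  have hcard : Nat.card (Qmod f) = Nat.card (Qmod g) := by
    haveI := finite_qmod (F := K) hf.ne_zero
    haveI := finite_qmod (F := K) (monic_dualP (s := s) hf0).ne_zero
    rw [Module.natCard_eq_pow_finrank (K := K), Module.natCard_eq_pow_finrank (K := K) (V := Qmod g),
      finrank_qmod, finrank_qmod, hg, natDegree_dualP hf0]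
  refine ⟨RingEquiv.ofBijective ψ ((Function.Surjective.bijective_of_nat_card_le hsurj (le_of_eq hcard))),
    hψc, ?_⟩
  show ψ (rootC f) * rootC g = 1
  rw [hψX, ← hx, Units.inv_mul]

theorem irreducible_dualP (hs2 : ∀ x, s (s x) = x) {p : K[X]} (hp : p.Monic ∧ Irreducible p)
    (hp0 : p.coeff 0 ≠ 0) : Irreducible (dualP s p) := by
  obtain ⟨ι, -, -⟩ := exists_iota s hs2 hp.1 hp0
  haveI := Fact.mk hp.2
  have hF : IsField (Qmod p) := Field.toIsField (AdjoinRoot p)
  have hF' : IsField (Qmod (dualP s p)) := MulEquiv.isField hF ι.symm.toMulEquiv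
  have hmax := Ideal.Quotient.maximal_of_isField _ hF'
  have hne : dualP s p ≠ 0 := (monic_dualP hp0).ne_zero
  exact ((Ideal.span_singleton_prime hne).mp hmax.isPrime).irreducible

/-- A functional with no nonzero ideal in its kernel. -/
theorem exists_functional {f : K[X]} (hf : f.Monic) :
    ∃ τ : Qmod f →ₗ[K] K, ∀ b, (∀ a, τ (a * b) = 0) → b = 0 := by
  rcases Nat.eq_zero_or_pos f.natDegree with h | h
  · refine ⟨0, fun b _ => ?_⟩
    obtain ⟨r, rfl⟩ := Ideal.Quotient.mk_surjective b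
    rw [Ideal.Quotient.eq_zero_iff_mem, Ideal.mem_span_singleton, eq_one_of_monic_natDegree_zero hf h]
    exact one_dvd _
  refine ⟨(lcoeff K (f.natDegree - 1)).comp (AdjoinRoot.modByMonicHom hf), fun b hb => ?_⟩
  obtain ⟨r, rfl⟩ := Ideal.Quotient.mk_surjective b
  by_contra hne
  set r' := r %ₘ f with hr'
  have hr : Ideal.Quotient.mk (Ideal.span {f}) r = Ideal.Quotient.mk _ r' := by
    rw [Ideal.Quotient.eq, Ideal.mem_span_singleton]
    exact ⟨r /ₘ f, by rw [hr', sub_eq_iff_eq_add']; exact (modByMonic_add_div r f).symm⟩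
  have hr0 : r' ≠ 0 := fun h0 => hne (by rw [hr, h0, map_zero])
  have hdeg : r'.natDegree < f.natDegree :=
    natDegree_lt_natDegree hr0 (degree_modByMonic_lt r hf)
  set k := f.natDegree - 1 - r'.natDegree with hk
  have h1 := hb (Ideal.Quotient.mk _ (X ^ k))
  rw [hr, ← map_mul] at h1
  change lcoeff K (f.natDegree - 1) ((AdjoinRoot.modByMonicHom hf) (Ideal.Quotient.mk (Ideal.span {f}) (X ^ k * r'))) = 0 at h1
  have h2 : (AdjoinRoot.modByMonicHom hf) (Ideal.Quotient.mk (Ideal.span {f}) (X ^ k * r')) = X ^ k * r' := by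
    show (AdjoinRoot.modByMonicHom hf) (AdjoinRoot.mk f (X ^ k * r')) = _
    rw [AdjoinRoot.modByMonicHom_mk, modByMonic_eq_self_iff hf]
    refine degree_lt_degree ?_
    rw [natDegree_mul (pow_ne_zero _ X_ne_zero) hr0, natDegree_X_pow]
    omega
  rw [h2, lcoeff_apply, show f.natDegree - 1 = r'.natDegree + k by omega, coeff_X_pow_mul] at h1
  exact leadingCoeff_ne_zero.mpr hr0 h1

end CfsgLib.SUClassNumber
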