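import Cfsg.Agent.Lib.SUClassNumber.Centralizer

/-!
The elementary divisors of a unitary element and its centraliser determinants.
-/

set_option autoImplicit false
set_option linter.unusedSectionVars false

namespace CfsgLib.SUClassNumber

open Polynomial Matrix CfsgLib.GLClassNumber CfsgLib.SLClassNumber
open CfsgLib.SemisimpleUnitary (st)

universe u

variable {K : Type u} [Field K] [Fintype K] {n : ℕ} {s : K →+* K}

theorem exists_iota' (hs2 : ∀ x, s (s x) = x) {f f' : K[X]} (hf : f.Monic) (hf0 : f.coeff 0 ≠ 0)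
    (h : dualP s f = f') :
    ∃ ι : Qmod f ≃+* Qmod f',
      (∀ c : K, ι (algebraMap K _ c) = algebraMap K _ (s c)) ∧ ι (rootC f) * rootC f' = 1 := by
  subst h
  exact exists_iota s hs2 hf hf0

theorem exists_functional_pi {ι : Type u} [Fintype ι] {f : ι → K[X]} (hf : ∀ k, (f k).Monic) :
    ∃ τ : ((k : ι) → Qmod (f k)) →ₗ[K] K, ∀ b, (∀ a, τ (a * b) = 0) → b = 0 := by
  classical
  choose τ hτ using fun k => exists_functional (hf k)
  refine ⟨∑ k, (τ k).comp (LinearMap.proj k), fun b hb => funext fun k => hτ k _ fun a => ?_⟩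
  have h1 := hb (Pi.single k a)
  rw [LinearMap.sum_apply, Finset.sum_eq_single k] at h1
  · simpa using h1
  · intro j _ hj
    simp [hj]
  · simp

/-- The matrix of a multiplication. -/
theorem exists_mulMat {R : Type u} [CommRing R] [Algebra K R] (T : (Fin n → K) ≃ₗ[K] R) (a : R) :
    ∃ A : Matrix (Fin n) (Fin n) K, (∀ v, T (A *ᵥ v) = a * T v) ∧ A.det = Algebra.norm K a := by
  let φ : Module.End K (Fin n → K) := T.symm.toLinearMap ∘ₗ Algebra.lmul K _ a ∘ₗ T.toLinearMap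
  refine ⟨LinearMap.toMatrix' φ, fun v => ?_, ?_⟩
  · rw [← Matrix.toLin'_apply, Matrix.toLin'_toMatrix']
    exact T.apply_symm_apply _
  · have h0 := LinearMap.det_conj (Algebra.lmul K _ a) T.symm
    rw [LinearEquiv.symm_symm] at h0
    rw [LinearMap.det_toMatrix', show φ = T.symm.toLinearMap ∘ₗ (Algebra.lmul K _ a) ∘ₗ T.toLinearMap from rfl,
      h0, ← Algebra.norm_apply]

/-- Coordinates of a decomposition. -/
theorem exists_coords {ι : Type u} {g : GL (Fin n) K} {p : ι → K[X]} {e : ι → ℕ}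
    (h : HasDecomp g p e) :
    ∃ T : (Fin n → K) ≃ₗ[K] ((k : ι) → Qmod (p k ^ e k)),
      ∀ v, T (g.1 *ᵥ v) = (fun k => rootC (p k ^ e k)) * T v := by
  obtain ⟨E⟩ := h
  refine ⟨(Module.AEval'.of (toEnd g)).trans (E.restrictScalars K), fun v => ?_⟩
  show E (Module.AEval'.of (toEnd g) (toEnd g v)) = _
  rw [← Module.AEval'.X_smul_of, map_smul]
  funext k
  obtain ⟨r, hr⟩ := Ideal.Quotient.mk_surjective (E (Module.AEval'.of (toEnd g) v) k)
  rw [Pi.smul_apply, Pi.mul_apply]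
  show (X : K[X]) • E (Module.AEval'.of (toEnd g) v) k =
    rootC (p k ^ e k) * E (Module.AEval'.of (toEnd g) v) k
  rw [← hr]
  rfl

/-- The elementary divisors of a unitary element are self-dual. -/
theorem eld_dual (hs2 : ∀ x, s (s x) = x) (g : GL (Fin n) K) (hg : st s g.1 * g.1 = 1) :
    ((eld g).map fun z => (dualP s z.1, z.2)) = eld g := by
  classical
  obtain ⟨ι, fι, p, e, hp, hdec, heg⟩ := eld_spec g
  have hp0 : ∀ k, (p k).coeff 0 ≠ 0 := fun k => (eld_props (g := g) (z := (p k, e k)) (by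
    rw [heg]; exact Multiset.mem_map.mpr ⟨k, Finset.mem_univ _, rfl⟩)).2.2.1
  have hf : ∀ k, (p k ^ e k).Monic := fun k => (hp k).1.pow _
  have hf0 : ∀ k, (p k ^ e k).coeff 0 ≠ 0 := fun k => by
    rw [coeff_zero_eq_eval_zero, eval_pow, ← coeff_zero_eq_eval_zero]; exact pow_ne_zero _ (hp0 k)
  choose θ hθc hθX using fun k => exists_iota' (s := s) hs2 (hf k) (hf0 k) (dualP_pow (p k) (e k))
  have hg' : ∀ k, (dualP s (p k) ^ e k).Monic := fun k => (monic_dualP (hp0 k)).pow _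
  haveI : ∀ k, Module.Finite K (Qmod (dualP s (p k) ^ e k)) := fun k => finite_qmod (hg' k).ne_zero
  obtain ⟨g', hdec'⟩ := exists_gl_of_module (F := K) (M := (k : ι) → Qmod (dualP s (p k) ^ e k)) (n := n) (by
    rw [Module.finrank_pi_fintype]
    simp only [finrank_qmod, natDegree_pow, natDegree_dualP (hp0 _)]
    exact finrank_decomp (fun j => (hp j).1.ne_zero) hdec) (fun m hm => funext fun k => by
      have h1 := congrFun hm k
      obtain ⟨r, hr⟩ := Ideal.Quotient.mk_surjective (m k)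
      rw [Pi.smul_apply, ← hr, Pi.zero_apply] at h1
      have h2 : rootC (dualP s (p k) ^ e k) * Ideal.Quotient.mk _ r = 0 := h1
      have hu : IsUnit (rootC (dualP s (p k) ^ e k)) := IsUnit.of_mul_eq_one_right _ (hθX k)
      rw [← hr]
      exact hu.mul_right_eq_zero.mp h2)
  obtain ⟨T, hT⟩ := exists_coords hdec
  obtain ⟨T', hT'⟩ := exists_coords (g := g') (p := fun k => dualP s (p k)) (e := e) hdec'
  obtain ⟨τ, hτ⟩ := exists_functional_pi hg'
  obtain ⟨P, hPu, hP⟩ := pairing_matrix (n := n) hs2 (RingEquiv.piCongrRight θ)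
    (fun c => funext fun k => hθc k c) τ hτ T T'
  have h1 := hP g.1 g'.1 _ _ hT hT' (funext fun k => hθX k)
  obtain ⟨Pu, rfl⟩ := hPu
  have hconj : IsConj g' g := by
    refine isConj_iff.mpr ⟨Pu, ?_⟩
    rw [mul_inv_eq_iff_eq_mul]
    refine Units.ext ?_
    show Pu.1 * g'.1 = g.1 * Pu.1
    conv_rhs => rw [← h1]
    rw [← mul_assoc, ← mul_assoc, mul_eq_one_comm.mp hg, one_mul]
  have h2 : eld g' = dataOf (fun k => dualP s (p k)) e :=
    eld_eq (fun k => ⟨monic_dualP (hp0 k), irreducible_dualP hs2 ⟨(hp k).1, (hp k).2.1⟩ (hp0 k),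
      (hp k).2.2.2⟩) hdec'
  conv_rhs => rw [← isConj_iff_eld.mp hconj, h2]
  rw [heg, dataOf, dataOf, Multiset.map_map]
  rfl

/-- A permutation of the blocks realising duality, involutive at a given block. -/
theorem exists_perm {ι : Type u} [Fintype ι] (D : ι → K[X] × ℕ) (d : K[X] × ℕ → K[X] × ℕ)
    (hd : ∀ k, d (d (D k)) = D k)
    (hmm : Finset.univ.val.map (fun k => d (D k)) = Finset.univ.val.map D) (i : ι) :
    ∃ φ : ι ≃ ι, (∀ k, D (φ k) = d (D k)) ∧ ∀ k, φ (φ k) = i ↔ k = i := by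
  classical
  have hc : ∀ w, Fintype.card {k // d (D k) = w} = Fintype.card {k // D k = w} := fun w => by
    have h2 := congrArg (Multiset.count w) hmm
    rw [Multiset.count_map, Multiset.count_map] at h2
    rw [Fintype.card_subtype, Fintype.card_subtype]
    simpa [Finset.card_def, Finset.filter_val, eq_comm] using h2
  let φ₀ : ι ≃ ι := Equiv.ofFiberEquiv fun w => Fintype.equivOfCardEq (hc w)
  have hφ₀ : ∀ k, D (φ₀ k) = d (D k) := fun k =>
    Equiv.ofFiberEquiv_map (f := fun k => d (D k)) (g := D) _ k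
  set j : ι := if d (D i) = D i then i else φ₀ i with hj
  have hDj : D j = d (D i) := by
    rw [hj]; split_ifs with h
    · exact h.symm
    · exact hφ₀ i
  have hswap : ∀ (ψ : ι ≃ ι) (a b : ι), (∀ k, D (ψ k) = d (D k)) → D a = D b →
      ∀ k, D ((ψ.trans (Equiv.swap a b)) k) = d (D k) := fun ψ a b hψ hab k => by
    rw [Equiv.trans_apply, Equiv.swap_apply_def]
    split_ifs with h1 h2
    · rw [← hab, ← h1, hψ]
    · rw [hab, ← h2, hψ]
    · exact hψ k
  let φ₁ := φ₀.trans (Equiv.swap (φ₀ i) j)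
  have hφ₁ : ∀ k, D (φ₁ k) = d (D k) := hswap φ₀ _ _ hφ₀ ((hφ₀ i).trans hDj.symm)
  have hφ₁i : φ₁ i = j := Equiv.swap_apply_left _ _
  let φ := φ₁.trans (Equiv.swap (φ₁ j) i)
  have hφ : ∀ k, D (φ k) = d (D k) := hswap φ₁ _ _ hφ₁ ((hφ₁ j).trans (by rw [hDj, hd]))
  have hφj : φ j = i := Equiv.swap_apply_left _ _
  have hφi : φ i = j := by
    by_cases hij : j = i
    · rw [hij] at hφj ⊢; exact hφj
    · show Equiv.swap (φ₁ j) i (φ₁ i) = j
      rw [hφ₁i]
      refine Equiv.swap_apply_of_ne_of_ne (fun h => hij ?_) hij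
      exact φ₁.injective (h.symm.trans hφ₁i.symm)
  refine ⟨φ, hφ, fun k => ⟨fun h => φ.injective (φ.injective (h.trans (by rw [hφi, hφj]))), ?_⟩⟩
  rintro rfl
  rw [hφi, hφj]

/-- The semilinear automorphism of a product of cyclic modules permuting dual factors. -/
theorem exists_twist_aut (hs2 : ∀ x, s (s x) = x) {ι : Type u} [Fintype ι] [DecidableEq ι] (f : ι → K[X])
    (hf : ∀ k, (f k).Monic) (hf0 : ∀ k, (f k).coeff 0 ≠ 0) (φ : ι ≃ ι)
    (hφ : ∀ k, dualP s (f k) = f (φ k)) (i : ι) (hφ2 : ∀ k, φ (φ k) = i ↔ k = i) :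
    ∃ Φ : ((k : ι) → Qmod (f k)) ≃+* ((k : ι) → Qmod (f k)),
      (∀ a : K, Φ (algebraMap K _ a) = algebraMap K _ (s a)) ∧
      Φ (fun k => rootC (f k)) * (fun k => rootC (f k)) = 1 ∧
      ∀ r : K[X], Φ (Φ fun k => Ideal.Quotient.mk _ (if k = i then r else 1)) =
        fun k => Ideal.Quotient.mk _ (if k = i then r else 1) := by
  choose θ hθc hθX using fun k => exists_iota' (s := s) hs2 (hf k) (hf0 k) (f' := f (φ k)) (hφ k)
  let Φ : ((k : ι) → Qmod (f k)) ≃+* ((k : ι) → Qmod (f k)) :=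
    (RingEquiv.piCongrRight θ).trans (RingEquiv.piCongrLeft (fun k => Qmod (f k)) φ)
  have hΦ : ∀ (x : (k : ι) → Qmod (f k)) (k : ι), Φ x (φ k) = θ k (x k) := fun x k =>
    Equiv.piCongrLeft_apply_apply (fun k => Qmod (f k)) φ (fun k => θ k (x k)) k
  have hθ2 : ∀ (k : ι) (r : K[X]), θ (φ k) (θ k (Ideal.Quotient.mk _ r)) =
      (Ideal.Quotient.mk _ r : Qmod (f (φ (φ k)))) := fun k r => by
    have hXX : θ (φ k) (θ k (rootC (f k))) = rootC (f (φ (φ k))) := by
      have h1 := congrArg (θ (φ k)) (hθX k)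
      rw [map_mul, map_one] at h1
      exact left_inv_eq_right_inv h1 (hθX (φ k))
    induction r using Polynomial.induction_on' with
    | add a b ha hb =>
      rw [map_add, map_add, map_add, ha, hb]
      exact (map_add (Ideal.Quotient.mk (Ideal.span {f (φ (φ k))})) a b).symm
    | monomial m a =>
      have hmk : ∀ k' : ι, Ideal.Quotient.mk (Ideal.span {f k'}) (monomial m a) =
          algebraMap K (Qmod (f k')) a * rootC (f k') ^ m := fun k' => by
        rw [← C_mul_X_pow_eq_monomial, map_mul, map_pow]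
        rfl
      rw [hmk, hmk, map_mul, map_mul, map_pow, map_pow, hθc, hθc, hs2, hXX]
  refine ⟨Φ, fun a => funext fun k => ?_, funext fun k => ?_, fun r => funext fun k => ?_⟩
  · obtain ⟨k, rfl⟩ := φ.surjective k
    rw [hΦ]
    exact hθc k a
  · obtain ⟨k, rfl⟩ := φ.surjective k
    rw [Pi.mul_apply, hΦ]
    exact hθX k
  · obtain ⟨k, rfl⟩ := φ.surjective k
    obtain ⟨k, rfl⟩ := φ.surjective k
    rw [hΦ, hΦ, hθ2]
    simp only [hφ2]

/-- The determinant produced by a semilinear automorphism fixing an element after two steps. -/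
theorem exists_fixed_det {R : Type u} [CommRing R] [Algebra K R] (hs2 : ∀ x, s (s x) = x)
    (T : (Fin n → K) ≃ₗ[K] R) (Φ : R ≃+* R) (hΦc : ∀ a : K, Φ (algebraMap K R a) = algebraMap K R (s a))
    (τ : R →ₗ[K] K) (hτ : ∀ b, (∀ a, τ (a * b) = 0) → b = 0)
    (g : GL (Fin n) K) (x : R) (hT : ∀ v, T (g.1 *ᵥ v) = x * T v) (hx : Φ x * x = 1)
    (y : R) (hy : IsUnit y) (hΦy : Φ (Φ y) = y) :
    ∃ A P : GL (Fin n) K, st s g.1 * P.1 * g.1 = P.1 ∧ st s A.1 * P.1 * A.1 = P.1 ∧ g * A = A * g ∧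
      A.1.det = Algebra.norm K y * (s (Algebra.norm K y))⁻¹ := by
  obtain ⟨P, hPu, hP⟩ := pairing_matrix (n := n) hs2 Φ hΦc τ hτ T T
  obtain ⟨yu, rfl⟩ := hy
  let wu : Rˣ := (Units.map Φ.toMonoidHom yu)⁻¹
  have hw : Φ (yu : R) * (wu : R) = 1 := Units.mul_inv (Units.map Φ.toMonoidHom yu)
  obtain ⟨Y, hY, hYd⟩ := exists_mulMat T (yu : R)
  obtain ⟨W, hW, hWd⟩ := exists_mulMat T (wu : R)
  obtain ⟨A, hA, hAd⟩ := exists_mulMat T ((yu : R) * (wu : R))
  have hdetP : P.det ≠ 0 := ((Matrix.isUnit_iff_isUnit_det _).mp hPu).ne_zero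
  have h := congrArg Matrix.det (hP Y W _ _ hY hW hw)
  rw [det_mul, det_mul, SemisimpleUnitary.st, det_transpose, ← RingHom.mapMatrix_apply, ← RingHom.map_det,
    hYd, hWd, mul_right_comm] at h
  have hprod : s (Algebra.norm K (yu : R)) * Algebra.norm K (wu : R) = 1 :=
    mul_right_cancel₀ hdetP (h.trans (one_mul _).symm)
  have hdet : A.det = Algebra.norm K (yu : R) * (s (Algebra.norm K (yu : R)))⁻¹ := by
    rw [hAd, map_mul, eq_inv_of_mul_eq_one_right hprod]
  have hfix : Φ ((yu : R) * (wu : R)) * ((yu : R) * (wu : R)) = 1 := by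
    have h2 : (yu : R) * Φ (wu : R) = 1 := by
      have h3 := congrArg Φ hw
      rwa [map_mul, map_one, hΦy] at h3
    rw [map_mul]
    calc Φ (yu : R) * Φ (wu : R) * ((yu : R) * (wu : R)) =
        (Φ (yu : R) * (wu : R)) * ((yu : R) * Φ (wu : R)) := by ring
      _ = 1 := by rw [hw, h2, one_mul]
  have hgA : g.1 * A = A * g.1 := by
    refine Matrix.ext_of_mulVec_single fun k => T.injective ?_
    rw [← Matrix.mulVec_mulVec, ← Matrix.mulVec_mulVec, hT, hA, hA, hT]
    ring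
  have hAne : A.det ≠ 0 := by
    rw [hdet]
    have hn0 : s (Algebra.norm K (yu : R)) ≠ 0 := left_ne_zero_of_mul_eq_one hprod
    exact mul_ne_zero (fun h0 => hn0 (by rw [h0, map_zero])) (inv_ne_zero hn0)
  obtain ⟨Pu, rfl⟩ := hPu
  exact ⟨Matrix.GeneralLinearGroup.mkOfDetNeZero A hAne, Pu, hP g.1 g.1 _ _ hT hT hx, hP A A _ _ hA hA hfix,
    Units.ext hgA, hdet⟩

/-- Determinants of the unitary centraliser. -/
theorem exists_cent_det (hs2 : ∀ x, s (s x) = x) (hne : ∃ a, s a ≠ a) (g : GL (Fin n) K)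
    (hg : st s g.1 * g.1 = 1) {z : K[X] × ℕ} (hz : z ∈ eld g) (c : Kˣ) :
    ∃ u : GL (Fin n) K, st s u.1 * u.1 = 1 ∧ g * u = u * g ∧
      u.1.det = (c : K) ^ z.2 * (s ((c : K) ^ z.2))⁻¹ := by
  classical
  have hdual := eld_dual hs2 g hg
  obtain ⟨ι, fι, p, e, hp, hdec, heg⟩ := eld_spec g
  have hp0 : ∀ k, (p k).coeff 0 ≠ 0 := fun k => (eld_props (g := g) (z := (p k, e k)) (by
    rw [heg]; exact Multiset.mem_map.mpr ⟨k, Finset.mem_univ _, rfl⟩)).2.2.1
  rw [heg] at hz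
  obtain ⟨i, -, rfl⟩ := Multiset.mem_map.mp hz
  obtain ⟨φ, hφ, hφ2⟩ := exists_perm (fun k => (p k, e k)) (fun z => (dualP s z.1, z.2))
    (fun k => by simp only [dualP_dualP hs2 (hp k).1 (hp0 k)]) (by
      rw [heg, dataOf, Multiset.map_map] at hdual
      exact hdual) i
  obtain ⟨Φ, hΦc, hΦX, hΦ2⟩ := exists_twist_aut hs2 (fun k => p k ^ e k) (fun k => (hp k).1.pow _)
    (fun k => by rw [coeff_zero_eq_eval_zero, eval_pow, ← coeff_zero_eq_eval_zero]; exact pow_ne_zero _ (hp0 k))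
    φ (fun k => by
      have h := hφ k
      simp only [Prod.mk.injEq] at h
      rw [dualP_pow, h.1, h.2]) i hφ2
  haveI : ∀ k, Module.Finite K (Qmod (p k ^ e k)) := fun k => finite_qmod ((hp k).1.pow _).ne_zero
  obtain ⟨v, hv, hvn⟩ := exists_norm_pow ⟨(hp i).1, (hp i).2.1⟩ (hp i).2.2.2 c
  obtain ⟨r, hr⟩ := Ideal.Quotient.mk_surjective v
  let y : (k : ι) → Qmod (p k ^ e k) := fun k => Ideal.Quotient.mk _ (if k = i then r else 1)
  have hyi : y i = v := by simp only [y, if_true]; exact hr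
  have hyk : ∀ k, k ≠ i → y k = 1 := fun k hk => by simp only [y, if_neg hk, map_one]
  have hy : IsUnit y := Pi.isUnit_iff.mpr fun k => by
    by_cases h : k = i
    · subst h; rw [hyi]; exact hv
    · rw [hyk k h]; exact isUnit_one
  have hyn : Algebra.norm K y = (c : K) ^ e i := by
    rw [norm_pi, Finset.prod_eq_single i]
    · rw [hyi, hvn]
    · intro k _ hk
      rw [hyk k hk, map_one]
    · simp
  obtain ⟨T, hT⟩ := exists_coords hdec
  obtain ⟨τ, hτ⟩ := exists_functional_pi (fun k => (hp k).1.pow (e k))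
  obtain ⟨A, P, h1, h2, h3, h4⟩ := exists_fixed_det hs2 T Φ hΦc τ hτ g _ hT hΦX y hy (hΦ2 r)
  obtain ⟨u, hu1, hu2, hu3⟩ := exists_unitary_cent hs2 hne g A P hg h1 h2 h3
  exact ⟨u, hu1, hu2, by rw [hu3, h4, hyn]⟩

end CfsgLib.SUClassNumber
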